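import Cfsg.Agent.N2.C1.Form

/-!
# N2 (S3519), class C1: regular unipotent elements, fixed point free elements, orbits (helper43)

* `Rg h u Y` : `u` is trivial on `pp Y` and unipotent with one Jordan block on `Y`; `exists_rg` (induction on hyperbolic planes).
* `exists_fpf` : products of transvections without fixed vector in `W`.
* `orb_one` : the Eichler transformations of `x + y` move `W`.
* `gd_A`, `gd_B` : the two counts.
-/

set_option autoImplicit false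
set_option linter.unusedSectionVars false

namespace Cfsg.Agent.N2.C1

open Cfsg.Agent.DS.Cl Cfsg.Agent.DS.Cl.Fwd Module Submodule
open Cfsg.Agent.N2C (Gd)
open Cfsg.Agent.TH.Cl (Eich)
open Cfsg.Agent.TH.Cl.Big (b_swap_zero iso_b)

section lin

variable {K V : Type*} [Field K] [AddCommGroup V] [Module K V] {T T' : End K V} {U U' Y : Submodule K V}

theorem Nl.of_map (h : Nl T U) (k : ∀ v ∈ Y, T v ∈ U) : Nl T Y := by
  obtain ⟨n, hn⟩ := h
  exact ⟨n + 1, fun v hv => by rw [pow_succ, End.mul_apply, hn _ (k v hv)]⟩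

theorem Nl.step (h : Nl T' U) (i : Iv T' U) (k : ∀ v ∈ U, T v - T' v ∈ U') (z : ∀ v ∈ U', T v = 0) : Nl T U := by
  obtain ⟨n, hn⟩ := h
  have h1 : ∀ (m : ℕ), ∀ v ∈ U, (T ^ m) v - (T' ^ m) v ∈ U' := fun m v hv => by
    induction m with
    | zero => simp
    | succ m ih =>
      have h2 := z _ ih
      rw [map_sub, sub_eq_zero] at h2
      rw [pow_succ', pow_succ', End.mul_apply, End.mul_apply, h2]
      exact k _ (i.pow m v hv)
  refine ⟨n + 1, fun v hv => ?_⟩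
  rw [pow_succ', End.mul_apply]
  exact z _ (by simpa [hn v hv] using h1 n v hv)

theorem Iv.sub_one' {g : End K V} (h : Iv g U) : Iv (g - 1) U := fun v hv => U.sub_mem (h v hv) hv

theorem Iv.of_sub_one {g : End K V} (h : Iv (g - 1) U) : Iv g U := fun v hv => by
  simpa using U.add_mem (h v hv) hv

end lin

variable {K V : Type} [Field K] [Fintype K] [AddCommGroup V] [Module K V] [Finite V] {h : HF K V} {F : FR h.EB}
  {X Y W : Submodule K V}

variable (h) in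
/-- trivial on `pp Y`, one unipotent Jordan block on `Y` -/
structure Rg (u : h.EBˣ) (Y : Submodule K V) : Prop where
  fix : ∀ v ∈ pp h Y, h.ap u v = v
  sb : Sb (h.ap u - 1) Y

theorem rg_one (hY : finrank K Y = 1) : Rg h 1 Y :=
  ⟨fun _ _ => rfl, iv_of_zero fun v _ => sub_self v, nl_of_zero fun v _ => sub_self v,
    (finrank_mono inf_le_right).trans hY.le⟩

/-- transvections of a plane -/
theorem rg_two (n : ND h Y) (hY : finrank K Y = 2) {u : h.EBˣ} {κ : K} (hκ : κ ≠ 0) {a : V} (ha : a ∈ Y) (h0 : a ≠ 0)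
    (haa : h.b a a = 0) (hu : ∀ x, h.ap u x = x - (κ * h.b x a) • a) : Rg h u Y := by
  have k : ∀ x, (h.ap u - 1) x = -((κ * h.b x a) • a) := fun x => by
    rw [LinearMap.sub_apply, hu, End.one_apply, sub_sub_cancel_left]
  refine ⟨fun v hv => by rw [hu, hv a ha, mul_zero, zero_smul, sub_zero],
    fun v _ => k v ▸ Y.neg_mem (Y.smul_mem _ ha), ⟨2, fun v _ => ?_⟩, ?_⟩
  · rw [pow_two, End.mul_apply, k v, map_neg, map_smul, k, haa]
    simp
  · obtain ⟨y, hy, e⟩ := n.partner ha h0 1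
    have : LinearMap.ker (h.ap u - 1) ⊓ Y < Y := lt_of_le_of_ne inf_le_right fun e' => by
      have h1 : (h.ap u - 1) y = 0 := (e'.ge hy).1
      rw [k, e, mul_one, neg_eq_zero, smul_eq_zero] at h1
      exact h1.elim hκ h0
    have := finrank_lt_finrank_of_lt this
    omega

theorem rg_step (n : ND h Y) {e f : V} (he : e ∈ Y) (hf : f ∈ Y) (hee : h.b e e = 0) (hfe : h.b f e = 1) {u : h.EBˣ}
    (hu : u ∈ F.Iso) (r : Rg h u (Y ⊓ pp h (span K {e, f}))) (h0 : Y ⊓ pp h (span K {e, f}) ≠ ⊥) {s : K} (hs : s ≠ 0)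
    (hE : ∀ t, h.b t e = 0 → ∃ c, Eich h F e t s c) :
    ∃ y ∈ (⁅F.Iso, F.Iso⁆ : Subgroup h.EBˣ), Rg h (y * u) Y := by
  have hfe' : h.b f e ≠ 0 := hfe ▸ one_ne_zero
  have m := nd_two hee hfe'
  have hle : span K {e, f} ≤ Y := span_le.2 (by rintro _ (rfl | rfl) <;> assumption)
  obtain ⟨Y', hY'⟩ : ∃ Y', Y' = Y ⊓ pp h (span K {e, f}) := ⟨_, rfl⟩
  have n' : ND h Y' := hY' ▸ n.rel_nd m hle
  have sp : span K {e, f} ⊔ Y' = Y := hY' ▸ m.rel hle
  have l1 : Y' ≤ Y := hY' ▸ inf_le_left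
  have o : ∀ v ∈ Y', h.b v e = 0 ∧ h.b v f = 0 := fun v hv => mem_pp_two.1 (hY' ▸ hv : v ∈ Y ⊓ _).2
  rw [← hY'] at r h0
  obtain ⟨x₀, hx₀, x0, tx⟩ := r.sb.nl.exists_ker r.sb.iv h0
  have ux : h.ap u x₀ = x₀ := sub_eq_zero.1 tx
  obtain ⟨w, hw, hwx⟩ := n'.partner hx₀ x0 1
  obtain ⟨c, y, hy, ey⟩ := hE w (o w hw).1
  have ue : h.ap u e = e := r.fix e fun v hv => b_swap_zero (o v hv).1
  have uf : h.ap u f = f := r.fix f fun v hv => b_swap_zero (o v hv).2
  have iu : Iv (h.ap u) Y' := r.sb.iv.of_sub_one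
  have k : ∀ v, (h.ap (y * u : h.EBˣ) - 1) v = (h.ap u - 1) v + h.b (h.ap u v) e • w -
      (s * h.b (h.ap u v) w + c * h.b (h.ap u v) e) • e := fun v => by
    rw [LinearMap.sub_apply, LinearMap.sub_apply, Units.val_mul, h.ap_mul, ey, End.one_apply]
    abel
  have dec : ∀ v ∈ Y, ∃ a b : K, ∃ v' ∈ Y', v = a • e + b • f + v' := fun v hv => by
    obtain ⟨z, hz, v', hv', rfl⟩ := mem_sup.1 (sp.ge hv)
    obtain ⟨a, b, rfl⟩ := mem_span_pair.1 hz
    exact ⟨a, b, v', hv', rfl⟩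
  have tu : ∀ v ∈ Y, (h.ap u - 1) v ∈ Y' := fun v hv => by
    obtain ⟨a, b, v', hv', rfl⟩ := dec v hv
    simpa [ue, uf] using r.sb.iv v' hv'
  have te : (h.ap (y * u : h.EBˣ) - 1) e = 0 := by
    rw [k, LinearMap.sub_apply, ue, hee, b_swap_zero (o w hw).1]
    simp
  have tm : ∀ v ∈ Y, (h.ap (y * u : h.EBˣ) - 1) v ∈ K ∙ e ⊔ Y' := fun v hv => by
    rw [k]
    exact sub_mem (mem_sup_right (Y'.add_mem (tu v hv) (Y'.smul_mem _ hw)))
      (mem_sup_left (smul_mem _ _ (mem_span_singleton_self e)))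
  have l2 : K ∙ e ⊔ Y' ≤ Y := sup_le ((span_singleton_le_iff_mem _ _).2 he) l1
  have z1 : ∀ v ∈ K ∙ e, (h.ap u - 1) v = 0 := fun v hv => by
    obtain ⟨a, rfl⟩ := mem_span_singleton.1 hv
    simp [ue]
  refine ⟨y, hy, fun v hv => ?_, fun v hv => l2 (tm v hv), Nl.of_map (Nl.step (U' := K ∙ e)
    ((nl_of_zero z1).sup r.sb.nl) ((iv_of_zero z1).sup r.sb.iv) (fun v hv => ?_) fun v hv => ?_) tm, ?_⟩
  · rw [Units.val_mul, h.ap_mul, r.fix v (pp_anti l1 hv), ey, hv e he, hv w (l1 hw)]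
    simp
  · obtain ⟨z, hz, v', hv', rfl⟩ := mem_sup.1 hv
    obtain ⟨a, rfl⟩ := mem_span_singleton.1 hz
    have h1 : h.b (h.ap u (a • e + v')) e = 0 := by
      rw [map_add, map_smul, ue, h.add_left, h.smul_left, hee, (o _ (iu v' hv')).1, mul_zero, add_zero]
    rw [k, h1, zero_smul, add_zero, sub_sub_cancel_left]
    exact neg_mem (smul_mem _ _ (mem_span_singleton_self e))
  · obtain ⟨a, rfl⟩ := mem_span_singleton.1 hv
    rw [map_smul, te, smul_zero]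
  · refine (finrank_mono (?_ : _ ≤ K ∙ e)).trans (TH.Cl.Big.finrank_one_le e)
    rintro v ⟨h1, hv⟩
    obtain ⟨a, b, v', hv', rfl⟩ := dec v hv
    have h2 : h.ap u (a • e + b • f + v') = a • e + b • f + h.ap u v' := by rw [map_add, map_add, map_smul, map_smul, ue, uf]
    have h3 : h.b (a • e + b • f + h.ap u v') e = b := by
      rw [h.add_left, h.add_left, h.smul_left, h.smul_left, hee, hfe, (o _ (iu v' hv')).1]
      ring
    have h4 : h.b (a • e + b • f + h.ap u v') w = h.b (h.ap u v') w := by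
      rw [h.add_left, h.add_left, h.smul_left, h.smul_left, b_swap_zero (o w hw).1, b_swap_zero (o w hw).2]
      ring
    rw [SetLike.mem_coe, LinearMap.mem_ker, k, LinearMap.sub_apply, h2, h3, h4, End.one_apply,
      add_sub_add_left_eq_sub] at h1
    have h5 := congrArg (h.b · x₀) h1
    have h6 : h.b (h.ap u v') x₀ = h.b v' x₀ := by rw [← iso_b hu v' x₀, ux]
    simp only [h.sub_left, h.add_left, h.smul_left, h6, hwx, b_swap_zero (o x₀ hx₀).1, h.zero_left] at h5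
    obtain rfl : b = 0 := by linear_combination h5
    have h7 := congrArg (h.b · f) h1
    simp only [h.sub_left, h.add_left, h.smul_left, (o _ (iu v' hv')).2, (o v' hv').2, h.zero_left] at h7
    have h8 : h.b (h.ap u v') w = 0 := by
      have h9 : s * h.b (h.ap u v') w * h.b e f = 0 := by linear_combination -h7
      exact (mul_eq_zero.1 ((mul_eq_zero.1 h9).resolve_right (h.ne_swap hfe'))).resolve_left hs
    rw [h8] at h1
    simp only [zero_smul, mul_zero, add_zero, sub_zero] at h1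
    have h9 : K ∙ x₀ = LinearMap.ker (h.ap u - 1) ⊓ Y' := eq_of_le_of_finrank_le
      ((span_singleton_le_iff_mem _ _).2 ⟨tx, hx₀⟩) (by rw [finrank_span_singleton x0]; exact r.sb.ker)
    obtain ⟨t, rfl⟩ := mem_span_singleton.1 (h9.ge ⟨h1, hv'⟩)
    rw [map_smul, ux, h.smul_left] at h8
    rw [(mul_eq_zero.1 h8).resolve_right (h.ne_swap (hwx ▸ one_ne_zero))]
    simpa using smul_mem _ a (mem_span_singleton_self e)

/-- **one Jordan block on every non-degenerate subspace** -/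
theorem exists_rg (M : h.EBˣ → Prop) (hM : ∀ y ∈ (⁅F.Iso, F.Iso⁆ : Subgroup h.EBˣ), ∀ u, M u → M (y * u))
    (hI : ∀ u, M u → u ∈ F.Iso) {s : K} (hs : s ≠ 0)
    (hS : ∀ Y, ND h Y → 3 ≤ finrank K Y → ∃ e ∈ Y, e ≠ 0 ∧ h.b e e = 0 ∧ ∀ t, h.b t e = 0 → ∃ c, Eich h F e t s c)
    {m : ℕ} (hm : 1 ≤ m) (base : ∀ Y' ≤ X, ND h Y' → finrank K Y' = m → ∃ u, M u ∧ Rg h u Y') (i : ℕ) :
    ∀ Y ≤ X, ND h Y → finrank K Y = m + 2 * i → ∃ u, M u ∧ Rg h u Y := by
  induction i with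
  | zero => exact base
  | succ i ih =>
    intro Y hX n d
    obtain ⟨e, he, h0, hee, hE⟩ := hS Y n (by omega)
    obtain ⟨f, hf, hfe⟩ := n.partner he h0 1
    have m' := nd_two hee (hfe ▸ one_ne_zero)
    have hle : span K {e, f} ≤ Y := span_le.2 (by rintro _ (rfl | rfl) <;> assumption)
    have d' := m'.rel_dim hle
    rw [dim_two hee (hfe ▸ one_ne_zero)] at d'
    obtain ⟨u, hu, r⟩ := ih _ (inf_le_left.trans hX) (n.rel_nd m' hle) (by omega)
    obtain ⟨y, hy, r'⟩ := rg_step n he hf hee hfe (hI u hu) r (fun e => by rw [e, finrank_bot] at d'; omega) hs hE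
    exact ⟨_, hM y hy u hu, r'⟩

/-- **no fixed vector in `W`** -/
theorem exists_fpf (hT : ∀ y ∈ W, y ≠ 0 → ∃ w ∈ W, h.b w y ≠ 0 ∧ ∃ κ : K, κ ≠ 0 ∧
    ∃ r ∈ (⁅F.Iso, F.Iso⁆ : Subgroup h.EBˣ), ∀ x, h.ap r x = x - (κ * h.b x w) • w) :
    ∃ g ∈ (⁅F.Iso, F.Iso⁆ : Subgroup h.EBˣ), (∀ v ∈ pp h W, h.ap g v = v) ∧ Ij (h.ap g - 1) W := by
  have k : ∀ j : ℕ, ∀ u ∈ (⁅F.Iso, F.Iso⁆ : Subgroup h.EBˣ), (∀ v ∈ pp h W, h.ap u v = v) →
      finrank K ↥(LinearMap.ker (h.ap u - 1) ⊓ W) ≤ j →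
      ∃ g ∈ (⁅F.Iso, F.Iso⁆ : Subgroup h.EBˣ), (∀ v ∈ pp h W, h.ap g v = v) ∧ Ij (h.ap g - 1) W := fun j => by
    induction j with
    | zero => exact fun u hu f d => ⟨u, hu, f, fun v hv e => (finrank_eq_zero.1 (Nat.le_zero.1 d)).le ⟨e, hv⟩⟩
    | succ j ih =>
      intro u hu f d
      by_cases h1 : Ij (h.ap u - 1) W
      · exact ⟨u, hu, f, h1⟩
      obtain ⟨y, hy, ty, y0⟩ : ∃ y ∈ W, (h.ap u - 1) y = 0 ∧ y ≠ 0 := by simpa [Ij] using h1
      obtain ⟨w, hw, hwy, κ, hκ, r, hr, er⟩ := hT y hy y0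
      have uy : h.ap u y = y := sub_eq_zero.1 ty
      have h2 : ∀ x, h.ap (r * u : h.EBˣ) x = x → h.ap u x = x ∧ h.b x w = 0 := fun x e => by
        rw [Units.val_mul, h.ap_mul, er] at e
        have h3 := congrArg (h.b · y) e
        have h4 : h.b (h.ap u x) y = h.b x y := by rw [← iso_b (FR.comm_le_Iso hu) x y, uy]
        simp only [h.sub_left, h.smul_left, h4, sub_eq_self, mul_eq_zero, hκ, hwy, false_or, or_false] at h3
        rw [h3, mul_zero, zero_smul, sub_zero] at e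
        exact ⟨e, e ▸ h3⟩
      refine ih (r * u) (mul_mem hr hu) (fun v hv => by
        rw [Units.val_mul, h.ap_mul, f v hv, er, hv w hw, mul_zero, zero_smul, sub_zero]) ?_
      have : LinearMap.ker (h.ap (r * u : h.EBˣ) - 1) ⊓ W < LinearMap.ker (h.ap u - 1) ⊓ W :=
        lt_of_le_of_ne (fun v hv => ⟨sub_eq_zero.2 (h2 v (sub_eq_zero.1 hv.1)).1, hv.2⟩) fun e =>
          hwy (b_swap_zero (h2 y (sub_eq_zero.1 (e.ge ⟨ty, hy⟩).1)).2)
      have := finrank_lt_finrank_of_lt this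
      omega
  exact k _ 1 (one_mem _) (fun _ _ => rfl) le_rfl

/-- **the orbit of `W` has at least `|K| ^ (n - 2)` points** -/
theorem orb_one (n : ND h W) {x y : V} (hx : x ∈ W) (hy : y ∈ pp h W) (hxx : h.b x x ≠ 0) (hs : h.b (x + y) (x + y) = 0)
    {s : K} (hE : ∀ t, h.b t (x + y) = 0 → ∃ c, Eich h F (x + y) t s c) :
    ∃ (I : Type) (ι : I → h.EBˣ), (∀ i, ι i ∈ (⁅F.Iso, F.Iso⁆ : Subgroup h.EBˣ)) ∧
      (∀ i i', Iv (h.ap ((ι i)⁻¹ * ι i' : h.EBˣ)) W → i = i') ∧ Nat.card K ^ (finrank K V - 2) ≤ Nat.card I := by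
  have o : ∀ z : pp h (span K {x, y}), h.b z (x + y) = 0 := fun z => by
    rw [h.add_right, (mem_pp_two.1 z.2).1, (mem_pp_two.1 z.2).2, add_zero]
  choose c ι hι e using fun z : pp h (span K {x, y}) => hE z (o z)
  refine ⟨_, ι, hι, fun z z' hW => Subtype.ext ?_, ?_⟩
  · have hu := FR.comm_le_Iso (mul_mem (inv_mem (hι z)) (hι z'))
    have h1 : ∀ z, h.ap (ι z) (x + y) = x + y := fun z => by rw [e, hs, b_swap_zero (o z)]; simp
    have h2 : ∀ v, h.ap (ι z) (h.ap ((ι z)⁻¹ * ι z' : h.EBˣ) v) = h.ap (ι z') v := fun v => by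
      rw [Units.val_mul, h.ap_mul, SB.Tor.ap_ap_inv]
    have h3 : h.ap ((ι z)⁻¹ * ι z' : h.EBˣ) (x + y) = x + y := by
      rw [Units.val_mul, h.ap_mul, h1, ← h1 z, SB.Tor.ap_inv_ap, h1]
    have h4 : h.ap ((ι z)⁻¹ * ι z' : h.EBˣ) x - x = 0 := n _ (W.sub_mem (hW x hx) hx) (by
      rw [map_add] at h3
      have : h.ap ((ι z)⁻¹ * ι z' : h.EBˣ) x - x = y - h.ap ((ι z)⁻¹ * ι z' : h.EBˣ) y := by
        rw [sub_eq_sub_iff_add_eq_add, h3, add_comm]
      exact this ▸ sub_mem hy (iv_pp hu hW y hy))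
    have h5 := h2 x
    have h6 : h.b x (x + y) = h.b x x := by rw [h.add_right, b_swap_zero (hy x hx), add_zero]
    have h7 : h.b (x + y) x = h.b x x := by rw [h.add_left, hy x hx, add_zero]
    rw [sub_eq_zero.1 h4, e, e, h6, b_swap_zero (mem_pp_two.1 z.2).1, b_swap_zero (mem_pp_two.1 z'.2).1] at h5
    have h8 := congrArg (h.b · x) h5
    simp only [h.sub_left, h.add_left, h.smul_left, (mem_pp_two.1 z.2).1, (mem_pp_two.1 z'.2).1, hy x hx] at h8
    have h9 : c z = c z' := mul_right_cancel₀ (mul_ne_zero hxx hxx) (by linear_combination -h8)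
    rw [h9, sub_left_inj, add_right_inj] at h5
    exact smul_right_injective V hxx h5
  · rw [natCard_eq_pow_finrank (K := K) (V := pp h (span K {x, y}))]
    have := finrank_le_pp (h := h) (span K {x, y})
    have := TH.Cl.Big.finrank_two_le (K := K) x y
    exact Nat.pow_le_pow_right Nat.card_pos (by omega)

variable {H : Subgroup (RingAut h.EB)}

/-- no fixed vector in `W`, one Jordan block on `pp W` -/
theorem gd_A (f : Fx F H W) {g u : h.EBˣ} (hg : g ∈ (⁅F.Iso, F.Iso⁆ : Subgroup h.EBˣ))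
    (hu : u ∈ (⁅F.Iso, F.Iso⁆ : Subgroup h.EBˣ)) (g1 : ∀ v ∈ pp h W, h.ap g v = v) (g2 : Ij (h.ap g - 1) W)
    (r : Rg h u (pp h W)) : Gd F H := by
  have e1 : ∀ v ∈ W, h.ap (g * u : h.EBˣ) v = h.ap g v := fun v hv => by
    rw [Units.val_mul, h.ap_mul, r.fix v (le_pp_pp hv)]
  have i1 : Iv (h.ap (g * u : h.EBˣ)) W := fun v hv => e1 v hv ▸ iv_of_fix (FR.comm_le_Iso hg) f.nd g1 v hv
  have s : Sb (h.ap (g * u : h.EBˣ) - 1) (pp h W) := r.sb.congr one_ne_zero fun v hv => by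
    rw [one_smul, LinearMap.sub_apply, LinearMap.sub_apply, Units.val_mul, h.ap_mul, g1 _ (r.sb.iv.of_sub_one v hv)]
  have p : Pm (h.ap (g * u : h.EBˣ) - 1) (pp h W) W := ⟨f.nd.compl.symm.sup_eq_top, s.iv, i1.sub_one', s.nl,
    fun v hv e => g2 v hv (by rwa [LinearMap.sub_apply, e1 v hv] at e)⟩
  have h3 : cyc (h.ap (g * u : h.EBˣ) - 1) (0 : V) = ⊥ := by rw [cyc_of_zero (map_zero _), span_zero_singleton]
  have := f.pos
  have := f.le
  have := f.nd.dim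
  refine f.gd (mul_mem hg hu) i1 _ (fun Z n d i => p.uni s (x₀ := 0) (j := 0) (by rw [h3, bot_sup_eq]) (zero_add _).symm
    (by rw [h3, finrank_bot]) (by omega) i.sub_one' (iv_pp (FR.comm_le_Iso (mul_mem hg hu)) i).sub_one' n.compl
    (by omega) (by have := n.dim; omega)) (fun _ : Unit => 1) (fun _ => one_mem _) (fun _ _ _ => rfl) ?_
  simpa using Nat.pow_le_pow_left (s.card_ker 0) 3

/-- a point -/
theorem gd_B (f : Fx F H W) (h1 : finrank K W = 1) (h5 : 5 ≤ finrank K V) {u : h.EBˣ}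
    (hu : u ∈ (⁅F.Iso, F.Iso⁆ : Subgroup h.EBˣ)) (r : Rg h u (pp h W)) {x y : V} (hx : x ∈ W) (hy : y ∈ pp h W)
    (hxx : h.b x x ≠ 0) (hs : h.b (x + y) (x + y) = 0) {s : K}
    (hE : ∀ t, h.b t (x + y) = 0 → ∃ c, Eich h F (x + y) t s c) : Gd F H := by
  obtain ⟨I, ι, a1, a2, a3⟩ := orb_one f.nd hx hy hxx hs hE
  have e1 : ∀ v ∈ W, (h.ap u - 1) v = 0 := fun v hv => sub_eq_zero.2 (r.fix v (le_pp_pp hv))
  have e2 : cyc (h.ap u - 1) x = W := by
    rw [cyc_of_zero (e1 x hx)]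
    exact eq_of_le_of_finrank_le ((span_singleton_le_iff_mem _ _).2 hx) (by rw [finrank_span_singleton (ne_of_b hxx), h1])
  have p : Pm (h.ap u - 1) ⊤ ⊥ := ⟨top_sup_eq _, fun _ _ => trivial, fun v hv => by simp [(mem_bot K).1 hv],
    f.nd.compl.sup_eq_top ▸ (nl_of_zero e1).sup r.sb.nl, fun v hv _ => hv⟩
  have := f.nd.dim
  refine f.gd hu (iv_of_zero e1).of_sub_one _ (fun Z n d i => p.uni r.sb (x₀ := x) (j := 1)
    (by rw [e2, f.nd.compl.sup_eq_top]) (by rw [finrank_top]; omega) (by rw [e2, h1]) (by omega) i.sub_one'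
    (iv_pp (FR.comm_le_Iso hu) i).sub_one' n.compl (by rw [finrank_bot]; omega)
    (by have := n.dim; rw [finrank_bot]; omega)) ι a1 a2 ?_
  refine (Nat.pow_le_pow_left (r.sb.card_ker 1) 3).trans (le_trans ?_ a3)
  rw [pow_one]
  exact Nat.pow_le_pow_right Nat.card_pos (by omega)

end Cfsg.Agent.N2.C1
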