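import Cfsg.Agent.N2.C1.Lin
import Cfsg.Agent.N2.Cl.Defs
import Cfsg.Agent.TH.Cl.Big.Main

/-!
# N2 (S3519), class C1: the bridge from `Ctx`; non-degenerate subspaces (helper43)

* `gd_ring`, `gd_hf` : `Gd F H` from labels of the fixed conjugates of a symmetric idempotent fixed by `H`.
* `pp h X`, `ND h X` : orthogonal complements, non-degenerate subspaces.
-/

set_option autoImplicit false
set_option linter.unusedSectionVars false

namespace Cfsg.Agent.N2.C1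

open Cfsg.Agent.DS.Cl Cfsg.Agent.DS.Cl.Fwd Module Submodule
open Cfsg.Agent.N2C (Ctx Gd FixD)
open Cfsg.Agent.TH.Cl.Big (b_swap_zero iso_b)

section ring

variable {A : Type} [Ring A] [StarRing A] [Finite A] {F : FR A} {H : Subgroup (RingAut A)} {p : ℕ} {e : A}

/-- a symmetric idempotent -/
structure SI (x : A) : Prop where
  idem : x * x = x
  symm : star x = x

theorem SI.compl {x : A} (h : SI x) : SI (1 - x) :=
  ⟨by rw [mul_sub, mul_one, sub_mul, one_mul, h.idem, sub_self, sub_zero], by rw [star_sub, star_one, h.symm]⟩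

theorem SI.map {x : A} (h : SI x) {γ : RingAut A} (hγ : γ ∈ F.Aut) : SI (γ x) :=
  ⟨by rw [← map_mul, h.idem], by rw [← hγ.1, h.symm]⟩

theorem cj_eq_self {u : Aˣ} {x : A} : DS.Cl.cj A u x = x ↔ (u : A) * x = x * u :=
  ⟨fun h => by rw [← cj_mul_eq, h], cj_eq_of_mul⟩

theorem not_fix (c : Ctx F H p) (h0 : e ≠ 0) (h1 : e ≠ 1) (he : SI e) : ¬ ∀ s ∈ F.S, s • e = e := fun h =>
  (c.ss.idem_symm (FR.cen_of_S c.span h) he.symm he.idem).elim h0 h1

/-- no element of `F.S` interchanges the two blocks -/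
theorem no_swap (c : Ctx F H p) (h0 : e ≠ 0) (h1 : e ≠ 1) (he : SI e) (hH : ∀ γ ∈ H, γ e = e) {s : RingAut A}
    (hs : s ∈ F.S) : s e ≠ 1 - e := by
  intro h
  have k : ∀ γ : RingAut A, γ (1 - e) = 1 - γ e := fun γ => by rw [map_sub, map_one]
  have h2 : ¬ DS.Cl.Inv F.S ({e, 1 - e} : Set A) := fun hI => by
    have := c.simple
    have h3 : ∀ a : F.S, (a : RingAut A) e = e ∨ (a : RingAut A) e = 1 - e := fun a => hI a a.2 e (Or.inl rfl)
    have h4 : (MulAction.stabilizer F.S e).Normal := ⟨fun n hn a => by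
      have h5 : (n : RingAut A) e = e := hn
      change (a : RingAut A) ((n : RingAut A) ((a⁻¹ : F.S).1 e)) = e
      have h6 : (n : RingAut A) ((a⁻¹ : F.S).1 e) = (a⁻¹ : F.S).1 e := by
        rcases h3 a⁻¹ with h7 | h7 <;> rw [h7]
        · exact h5
        · rw [k, h5]
      rw [h6]
      exact ra_apply_inv _ _⟩
    rcases h4.eq_bot_or_eq_top with h5 | h5
    · refine c.noncomm ⟨⟨fun a b => ?_⟩⟩
      have h6 : (a * b) • e = (b * a) • e := by
        change (a : RingAut A) ((b : RingAut A) e) = (b : RingAut A) ((a : RingAut A) e)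
        rcases h3 a with h7 | h7 <;> rcases h3 b with h8 | h8 <;> simp only [h7, h8, k]
      have h7 : (b * a)⁻¹ * (a * b) ∈ MulAction.stabilizer F.S e := by
        rw [MulAction.mem_stabilizer_iff, mul_smul, h6, inv_smul_smul]
      rw [h5, Subgroup.mem_bot, inv_mul_eq_one] at h7
      exact h7.symm
    · exact not_fix c h0 h1 he fun t ht => (h5.ge (Subgroup.mem_top ⟨t, ht⟩) :)
  have h3 := hH s (c.mem_of_inv (X := {e, 1 - e}) (fun γ hγ x hx => by
    rcases hx with rfl | rfl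
    · exact Or.inl (hH γ hγ)
    · exact Or.inr (by rw [k, hH γ hγ]; rfl)) h2 hs (fun x hx => by
    rcases hx with rfl | rfl
    · exact Or.inr h
    · exact Or.inl (by rw [k, h, sub_sub_cancel])))
  have h4 := congrArg (e * ·) (h3.symm.trans h)
  simp only [mul_sub, mul_one, he.idem, sub_self] at h4
  exact h0 h4

/-- **the bridge**, ring level -/
theorem gd_ring (c : Ctx F H p) (h0 : e ≠ 0) (h1 : e ≠ 1) (he : SI e) (hH : ∀ γ ∈ H, γ e = e) {X J I : Type*} [Finite J]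
    (ψ : A → X) (hψ : ∀ x y, SI x → SI y → ψ x = ψ y → x = y) {g : Aˣ} (hg : g ∈ (⁅F.Iso, F.Iso⁆ : Subgroup Aˣ))
    (hge : (g : A) * e = e * g) (cand : J → X)
    (hc : ∀ a ∈ F.Iso, (g : A) * DS.Cl.cj A a e = DS.Cl.cj A a e * g →
      ∃ j, ψ (DS.Cl.cj A a e) = cand j ∨ ψ (1 - DS.Cl.cj A a e) = cand j)
    (ι : I → Aˣ) (hι : ∀ i, ι i ∈ (⁅F.Iso, F.Iso⁆ : Subgroup Aˣ))
    (hι' : ∀ i i', (((ι i)⁻¹ * ι i' : Aˣ) : A) * e = e * ((ι i)⁻¹ * ι i' : Aˣ) → i = i')
    (hn : Nat.card J ^ 3 ≤ Nat.card I) : Gd F H := by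
  let π : (⁅F.Iso, F.Iso⁆ : Subgroup Aˣ) →* F.S := (DS.Cl.cj A).subgroupMap _
  have hπ : Function.Surjective π := (DS.Cl.cj A).subgroupMap_surjective _
  have hB : ∀ a, a ∈ (H.subgroupOf F.S).comap π ↔ DS.Cl.cj A a.1 e = e := fun a =>
    ⟨fun h => hH _ h, c.mem_of_smul hH (not_fix c h0 h1 he) (π a).2⟩
  have hs : ∀ a : (⁅F.Iso, F.Iso⁆ : Subgroup Aˣ), SI (DS.Cl.cj A a.1 e) := fun a =>
    he.map (FR.cj_mem_Aut (FR.comm_le_Iso a.2))
  have k : ∀ a b : (⁅F.Iso, F.Iso⁆ : Subgroup Aˣ), DS.Cl.cj A (a⁻¹ * b).1 e = (DS.Cl.cj A a.1)⁻¹ (DS.Cl.cj A b.1 e) :=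
    fun a b => by rw [Subgroup.coe_mul, Subgroup.coe_inv, map_mul, map_inv, ra_mul]
  refine (good_comap π hπ _).1 (good_of_cand (fun a => ψ (DS.Cl.cj A a.1 e)) (fun a => ψ (1 - DS.Cl.cj A a.1 e))
    (fun a b h => ?_) (fun a b h => ?_) (fun a b h => ?_) (g := ⟨g, hg⟩) ((hB _).2 (cj_eq_self.2 hge)) cand
    (fun a h => hc _ (FR.comm_le_Iso a.2) (cj_eq_self.1 ?_)) (fun i => ⟨ι i, hι i⟩)
    (fun i i' h => hι' i i' (cj_eq_self.1 ((hB _).1 h))) hn)
  · rw [hB, k, ← hψ _ _ (hs a) (hs b) h, ra_inv_apply]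
  · rw [hB, k, ← sub_right_injective (hψ _ _ (hs a).compl (hs b).compl h), ra_inv_apply]
  · refine no_swap c h0 h1 he hH (π (b⁻¹ * a)).2 ?_
    change DS.Cl.cj A (b⁻¹ * a).1 e = _
    rw [k, hψ _ _ (hs a) (hs b).compl h, map_sub, map_one, ra_inv_apply]
  · rw [hB, mul_assoc, k, Subgroup.coe_mul, map_mul, ra_mul] at h
    have h2 := congrArg (DS.Cl.cj A a.1) h
    rwa [ra_apply_inv] at h2

end ring

variable {K V : Type} [Field K] [Fintype K] [AddCommGroup V] [Module K V] [Finite V] (h : HF K V)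

/-- the orthogonal complement -/
def pp (X : Submodule K V) : Submodule K V where
  carrier := {v | ∀ x ∈ X, h.b v x = 0}
  add_mem' ha hb x hx := by rw [h.add_left, ha x hx, hb x hx, add_zero]
  zero_mem' x _ := h.zero_left x
  smul_mem' c v hv x hx := by rw [h.smul_left, hv x hx, mul_zero]

/-- a non-degenerate subspace -/
def ND (X : Submodule K V) : Prop := ∀ v ∈ X, v ∈ pp h X → v = 0

variable {h} {X Y P : Submodule K V} {F : FR h.EB}

theorem mem_pp {v : V} : v ∈ pp h X ↔ ∀ x ∈ X, h.b v x = 0 := Iff.rfl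

theorem pp_anti (hle : X ≤ Y) : pp h Y ≤ pp h X := fun _ hv x hx => hv x (hle hx)

theorem le_pp_comm (hle : X ≤ pp h Y) : Y ≤ pp h X := fun y hy _ hx => b_swap_zero (hle hx y hy)

theorem le_pp_pp : X ≤ pp h (pp h X) := le_pp_comm le_rfl

theorem mem_pp_span {s : Set V} {v : V} : v ∈ pp h (span K s) ↔ ∀ x ∈ s, h.b v x = 0 :=
  ⟨fun k x hx => k x (subset_span hx), fun k => le_pp_comm (X := span K s) (Y := K ∙ v) (span_le.2 fun x hx y hy => by
    obtain ⟨c, rfl⟩ := mem_span_singleton.1 hy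
    rw [h.smul_right, b_swap_zero (k x hx), mul_zero]) (mem_span_singleton_self v)⟩

theorem mem_pp_one {x v : V} : v ∈ pp h (K ∙ x) ↔ h.b v x = 0 := by simp [mem_pp_span]

theorem mem_pp_two {x y v : V} : v ∈ pp h (span K {x, y}) ↔ h.b v x = 0 ∧ h.b v y = 0 := by simp [mem_pp_span]

theorem mem_pp_sup {v : V} : v ∈ pp h (X ⊔ Y) ↔ v ∈ pp h X ∧ v ∈ pp h Y :=
  ⟨fun k => ⟨pp_anti le_sup_left k, pp_anti le_sup_right k⟩, fun k z hz => by
    obtain ⟨a, ha, b, hb, rfl⟩ := mem_sup.1 hz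
    rw [h.add_right, k.1 a ha, k.2 b hb, add_zero]⟩

theorem finrank_le_pp (X : Submodule K V) : finrank K V ≤ finrank K X + finrank K (pp h X) := by
  let B := Module.finBasis K X
  let f : V →ₗ[K] (Fin (finrank K X) → K) := LinearMap.pi fun i => h.lin (B i)
  have h1 := f.finrank_range_add_finrank_ker
  have h2 := finrank_le (LinearMap.range f)
  have h3 : LinearMap.ker f ≤ pp h X := fun v hv x hx => by
    have h4 : (⟨x, hx⟩ : X) ∈ (pp h (K ∙ v)).comap X.subtype := by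
      refine (span_le.2 ?_ : span K (Set.range B) ≤ _) (B.mem_span _)
      rintro _ ⟨i, rfl⟩
      exact mem_pp_one.2 (b_swap_zero (congrFun hv i))
    exact b_swap_zero (mem_pp_one.1 h4)
  have h4 := finrank_mono h3
  rw [finrank_fin_fun] at h2
  omega

namespace ND

theorem inf (n : ND h X) : X ⊓ pp h X = ⊥ := eq_bot_iff.2 fun v hv => n v hv.1 hv.2

theorem compl (n : ND h X) : IsCompl X (pp h X) :=
  IsCompl.of_eq n.inf (eq_top_of_finrank_eq (le_antisymm (finrank_le _) (by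
    rw [finrank_sup_of n.inf]; exact finrank_le_pp X)))

theorem dim (n : ND h X) : finrank K X + finrank K (pp h X) = finrank K V := finrank_add_eq_of_isCompl n.compl

theorem split (n : ND h X) (v : V) : ∃ a ∈ X, ∃ b ∈ pp h X, a + b = v := mem_sup.1 (n.compl.sup_eq_top ▸ mem_top)

/-- the complement in a non-degenerate subspace -/
theorem rel (m : ND h P) (hle : P ≤ X) : P ⊔ X ⊓ pp h P = X := by
  rw [inf_comm, ← sup_inf_assoc_of_le _ hle, m.compl.sup_eq_top, top_inf_eq]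

theorem rel_nd (n : ND h X) (m : ND h P) (hle : P ≤ X) : ND h (X ⊓ pp h P) := fun v hv k =>
  n v hv.1 (m.rel hle ▸ mem_pp_sup.2 ⟨hv.2, k⟩)

theorem rel_dim (m : ND h P) (hle : P ≤ X) : finrank K X = finrank K P + finrank K ↥(X ⊓ pp h P) := by
  rw [← finrank_sup_of (X := P) (X' := X ⊓ pp h P) (eq_bot_iff.2 fun v hv => m v hv.1 hv.2.2), m.rel hle]

theorem sup (n : ND h X) (m : ND h Y) (o : X ≤ pp h Y) : ND h (X ⊔ Y) := fun v hv k => by
  obtain ⟨a, ha, b, hb, rfl⟩ := mem_sup.1 hv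
  obtain ⟨k1, k2⟩ := mem_pp_sup.1 k
  rw [n a ha (by simpa using (pp h X).sub_mem k1 (le_pp_comm o hb)),
    m b hb (by simpa using (pp h Y).sub_mem k2 (o ha)), add_zero]

theorem sup_dim (n : ND h X) (o : Y ≤ pp h X) : finrank K ↥(X ⊔ Y) = finrank K X + finrank K Y :=
  finrank_sup_of (eq_bot_iff.2 fun v hv => n v hv.1 (o hv.2))

theorem partner (n : ND h X) {x : V} (hx : x ∈ X) (h0 : x ≠ 0) (c : K) : ∃ y ∈ X, h.b y x = c := by
  obtain ⟨y, hy, k⟩ : ∃ y ∈ X, h.b x y ≠ 0 := by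
    by_contra hcon
    push Not at hcon
    exact h0 (n x hx hcon)
  exact ⟨(c / h.b y x) • y, X.smul_mem _ hy, by rw [h.smul_left, div_mul_cancel₀ _ (h.ne_swap k)]⟩

end ND

theorem nd_top : ND h ⊤ := fun v _ k => h.nondeg v fun u => b_swap_zero (k u trivial)

theorem ND.perp (n : ND h X) : ND h (pp h X) := by simpa using nd_top.rel_nd n le_top

theorem ND.pp_pp (n : ND h X) : pp h (pp h X) = X :=
  (eq_of_le_of_finrank_le le_pp_pp (by have := n.dim; have := n.perp.dim; omega)).symm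

theorem nd_one {x : V} (hx : h.b x x ≠ 0) : ND h (K ∙ x) := fun v hv k => by
  obtain ⟨c, rfl⟩ := mem_span_singleton.1 hv
  rw [mem_pp_one, h.smul_left] at k
  rw [(mul_eq_zero.1 k).resolve_right hx, zero_smul]

theorem nd_two {x y : V} (hx : h.b x x = 0) (hy : h.b y x ≠ 0) : ND h (span K {x, y}) := fun v hv k => by
  obtain ⟨a, c, rfl⟩ := mem_span_pair.1 hv
  rw [mem_pp_two, h.add_left, h.add_left, h.smul_left, h.smul_left, h.smul_left, h.smul_left, hx, mul_zero,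
    zero_add] at k
  obtain rfl := (mul_eq_zero.1 k.1).resolve_right hy
  replace k := k.2
  rw [zero_mul, add_zero] at k
  rw [(mul_eq_zero.1 k).resolve_right (h.ne_swap hy), zero_smul, zero_smul, add_zero]

theorem dim_two {x y : V} (hx : h.b x x = 0) (hy : h.b y x ≠ 0) : finrank K (span K {x, y}) = 2 := by
  have h1 : x ≠ 0 := fun e => hy (by rw [e, h.zero_right])
  have h2 : y ≠ 0 := fun e => hy (by rw [e, h.zero_left])
  rw [span_insert, finrank_sup_of, finrank_span_singleton h1, finrank_span_singleton h2]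
  refine eq_bot_iff.2 fun v hv => ?_
  obtain ⟨a, rfl⟩ := mem_span_singleton.1 hv.2
  obtain ⟨c, e⟩ := mem_span_singleton.1 hv.1
  have h3 := congrArg (h.b · x) e
  simp only [h.smul_left, hx, mul_zero] at h3
  rw [(mul_eq_zero.1 h3.symm).resolve_right hy, zero_smul]
  exact zero_mem _

theorem ne_of_b {x : V} (hx : h.b x x ≠ 0) : x ≠ 0 := fun e => hx (by rw [e, h.zero_left])

theorem iv_pp {u : h.EBˣ} (hu : u ∈ F.Iso) (hX : Iv (h.ap u) X) : Iv (h.ap u) (pp h X) := fun v hv x hx => by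
  have h1 : Function.Injective ((h.ap u).restrict hX) := (injective_iff_map_eq_zero _).2 fun w k => by
    by_contra h0
    exact TH.Cl.Big.ap_ne (fun e => h0 (Subtype.ext e)) (congrArg Subtype.val k)
  obtain ⟨w, hw⟩ := LinearMap.injective_iff_surjective.1 h1 ⟨x, hx⟩
  rw [← show h.ap u w = x from congrArg Subtype.val hw, iso_b hu, hv _ w.2]

/-- an isometry which fixes `pp X` pointwise preserves `X` -/
theorem iv_of_fix {u : h.EBˣ} (hu : u ∈ F.Iso) (n : ND h X) (hX : ∀ v ∈ pp h X, h.ap u v = v) : Iv (h.ap u) X :=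
  n.pp_pp ▸ iv_pp hu fun v hv => by rwa [hX v hv]

variable {e : h.EB}

/-- the range -/
def rg (h : HF K V) (e : h.EB) : Submodule K V := LinearMap.range (h.ap e)

theorem SI.mem_rg (he : SI e) {v : V} : v ∈ rg h e ↔ h.ap e v = v :=
  ⟨by rintro ⟨x, rfl⟩; rw [← h.ap_mul, he.idem], fun k => ⟨v, k⟩⟩

theorem SI.mem_rg' (he : SI e) {v : V} : v ∈ rg h (1 - e) ↔ h.ap e v = 0 := by
  rw [he.compl.mem_rg, h.ap_sub, h.ap_one, sub_eq_self]

theorem SI.pp_rg (he : SI e) : pp h (rg h e) = rg h (1 - e) := by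
  ext v
  rw [he.mem_rg']
  refine ⟨fun k => h.nondeg _ fun u => ?_, fun k x hx => TH.Cl.Big.b_cross' he.symm (he.mem_rg.1 hx) k⟩
  rw [← he.symm, h.b_star, b_swap_zero (k _ ⟨u, rfl⟩)]

theorem SI.nd (he : SI e) : ND h (rg h e) := fun v hv k => by
  rw [he.pp_rg, he.mem_rg'] at k
  rw [← he.mem_rg.1 hv, k]

theorem SI.rg_inj {x y : h.EB} (hx : SI x) (hy : SI y) (k : rg h x = rg h y) : x = y := by
  have h1 : x * y = y := h.ap_ext fun v => by rw [h.ap_mul]; exact hx.mem_rg.1 (k ▸ ⟨v, rfl⟩)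
  have h2 : y * x = x := h.ap_ext fun v => by rw [h.ap_mul]; exact hy.mem_rg.1 (k ▸ ⟨v, rfl⟩)
  have h3 := congrArg star h1
  rw [star_mul, hx.symm, hy.symm, h2] at h3
  exact h3

theorem SI.iv_iff (he : SI e) {u : h.EBˣ} (hu : u ∈ F.Iso) : (u : h.EB) * e = e * u ↔ Iv (h.ap u) (rg h e) := by
  refine ⟨fun k v hv => he.mem_rg.2 (by rw [← h.ap_mul, ← k, h.ap_mul, he.mem_rg.1 hv]), fun k => h.ap_ext fun v => ?_⟩
  obtain ⟨a, ha, b, hb, rfl⟩ := he.nd.split v
  have h1 := iv_pp hu k b hb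
  rw [he.pp_rg, he.mem_rg'] at h1 hb
  rw [h.ap_mul, h.ap_mul, map_add (h.ap e), map_add (h.ap u) a b, map_add (h.ap e), he.mem_rg.1 ha, hb, add_zero, h1,
    add_zero, he.mem_rg.1 (k a ha)]

theorem finrank_rg_cj (a : h.EBˣ) (e : h.EB) : finrank K (rg h (DS.Cl.cj h.EB a e)) = finrank K (rg h e) := by
  have k : ∀ (a : h.EBˣ) (e : h.EB), finrank K (rg h (DS.Cl.cj h.EB a e)) ≤ finrank K (rg h e) := fun a e => by
    refine (finrank_mono ?_).trans (finrank_map_le (h.ap a) (rg h e))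
    rintro _ ⟨v, rfl⟩
    exact ⟨_, ⟨_, rfl⟩, by rw [cj_apply, h.ap_mul, h.ap_mul]⟩
  refine le_antisymm (k a e) ?_
  have := k a⁻¹ (DS.Cl.cj h.EB a e)
  rwa [map_inv, ra_inv_apply] at this

/-- the data of a fixed non-degenerate subspace `W`, of dimension at most the dimension of `pp W` -/
structure Fx (F : FR h.EB) (H : Subgroup (RingAut h.EB)) (W : Submodule K V) : Prop where
  nd : ND h W
  pos : 0 < finrank K W
  le : finrank K W ≤ finrank K (pp h W)
  gd : ∀ {J I : Type} [Finite J] {g : h.EBˣ}, g ∈ (⁅F.Iso, F.Iso⁆ : Subgroup h.EBˣ) → Iv (h.ap g) W →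
    ∀ cand : J → Submodule K V, (∀ Z, ND h Z → finrank K Z = finrank K W → Iv (h.ap g) Z →
      ∃ j, Z = cand j ∨ pp h Z = cand j) → ∀ ι : I → h.EBˣ, (∀ i, ι i ∈ (⁅F.Iso, F.Iso⁆ : Subgroup h.EBˣ)) →
    (∀ i i', Iv (h.ap ((ι i)⁻¹ * ι i' : h.EBˣ)) W → i = i') → Nat.card J ^ 3 ≤ Nat.card I → Gd F H

/-- **the bridge**, forms -/
theorem exists_fx {H : Subgroup (RingAut h.EB)} {p : ℕ} (c : Ctx F H p) (hD : FixD H) : ∃ W, Fx F H W := by
  have k : ∀ e : h.EB, e ≠ 0 → e ≠ 1 → SI e → (∀ γ ∈ H, γ e = e) → finrank K (rg h e) ≤ finrank K (rg h (1 - e)) →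
      Fx F H (rg h e) := fun e h0 h1 he hH hle => by
    refine ⟨he.nd, Nat.pos_of_ne_zero fun k => h0 (h.ap_ext fun v => ?_), he.pp_rg ▸ hle,
      fun hg hgW cand hc ι hι hι' hn => ?_⟩
    · exact (finrank_eq_zero.1 k).le (⟨v, rfl⟩ : h.ap e v ∈ rg h e)
    · refine gd_ring c h0 h1 he hH (rg h) (fun _ _ => SI.rg_inj) hg ((he.iv_iff (FR.comm_le_Iso hg)).2 hgW) cand
        (fun a ha k => ?_) ι hι (fun i i' k => hι' i i' ((he.iv_iff (FR.comm_le_Iso
          (mul_mem (inv_mem (hι i)) (hι i')))).1 k)) hn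
      have hs := he.map (FR.cj_mem_Aut ha)
      rw [← hs.pp_rg]
      exact hc _ hs.nd (finrank_rg_cj a e) ((hs.iv_iff (FR.comm_le_Iso hg)).1 k)
  obtain ⟨e, h0, h1, h2, h3, hH⟩ := hD
  rcases le_total (finrank K (rg h e)) (finrank K (rg h (1 - e))) with l | l
  · exact ⟨_, k e h0 h1 ⟨h2, h3⟩ hH l⟩
  · exact ⟨_, k (1 - e) (sub_ne_zero.2 h1.symm) (fun k => h0 (sub_eq_self.1 k)) (SI.compl ⟨h2, h3⟩)
      (fun γ hγ => by rw [map_sub, map_one, hH γ hγ]) (by rwa [sub_sub_cancel])⟩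

end Cfsg.Agent.N2.C1
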