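import Cfsg.Agent.N2.C1.Form

/-!
# N2 (S3519), class C1: linear groups, a fixed decomposition `V = W ⊕ Y` (helper43)
-/

set_option autoImplicit false
set_option linter.unusedSectionVars false

namespace Cfsg.Agent.N2.C1

open Cfsg.Agent.DS.Cl Cfsg.Agent.DS.Cl.Fwd Module Submodule Polynomial
open Cfsg.Agent.N2C (Ctx Gd FixD OnL pFix)
open Cfsg.Agent.SB.Fld (prL)

section lin

variable {K U V : Type*} [Field K] [AddCommGroup U] [Module K U] [FiniteDimensional K U] [AddCommGroup V] [Module K V]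
  [FiniteDimensional K V]

/-- companion maps -/
theorem exists_comp {f : K[X]} (hf : f.Monic) (hd : f.natDegree = finrank K U) : ∃ g : End K U,
    LinearMap.det g = (-1) ^ f.natDegree * f.coeff 0 ∧ aeval g f = 0 ∧ finrank K (LinearMap.ker (g - 1)) ≤ 1 := by
  let B := AdjoinRoot.powerBasis hf.ne_zero
  have := B.finite
  let e : AdjoinRoot f ≃ₗ[K] U := LinearEquiv.ofFinrankEq _ _ (by rw [B.finrank, ← hd]; rfl)
  let φ : AdjoinRoot f →ₐ[K] End K U := (e.conjAlgEquiv K : End K (AdjoinRoot f) →ₐ[K] End K U).comp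
    (Algebra.lmul K (AdjoinRoot f))
  have hφ : ∀ a x, φ a (e x) = e (a * x) := fun a x => by simp [φ]
  refine ⟨φ (AdjoinRoot.root f), ?_, ?_, ?_⟩
  · have h1 := Algebra.PowerBasis.norm_gen_eq_coeff_zero_minpoly B
    rw [AdjoinRoot.minpoly_powerBasis_gen_of_monic hf, Algebra.norm_apply] at h1
    exact (LinearMap.det_conj _ e).trans h1
  · rw [aeval_algHom_apply, AdjoinRoot.aeval_eq, AdjoinRoot.mk_self, map_zero]
  · have h1 := (φ (AdjoinRoot.root f) - 1).finrank_range_add_finrank_ker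
    have h2 : (⊤ : Submodule K U) ≤ LinearMap.range (φ (AdjoinRoot.root f) - 1) ⊔ K ∙ e 1 := fun v _ => by
      obtain ⟨x, rfl⟩ := e.surjective v
      obtain ⟨r, rfl⟩ := AdjoinRoot.mk_surjective x
      refine mem_sup.2 ⟨_, ⟨e (AdjoinRoot.mk f (r /ₘ (X - C 1))), rfl⟩, _,
        smul_mem _ (r.eval 1) (mem_span_singleton_self _), ?_⟩
      rw [LinearMap.sub_apply, hφ, End.one_apply, ← map_sub, ← map_smul, ← map_add]
      congr 1
      conv_rhs => rw [← modByMonic_add_div r (X - C 1), modByMonic_X_sub_C_eq_C_eval]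
      rw [map_add, map_mul, map_sub, AdjoinRoot.mk_X, AdjoinRoot.mk_C, AdjoinRoot.mk_C, map_one (AdjoinRoot.of f),
        Algebra.smul_def]
      change _ + AdjoinRoot.of f _ * _ = _
      ring
    have h3 := (finrank_mono h2).trans (finrank_add_le_finrank_add_finrank _ _)
    have h4 : finrank K (K ∙ e 1) ≤ 1 := (finrank_span_le_card _).trans (by simp)
    rw [finrank_top] at h3
    omega

/-- determinant one, no eigenvalue -/
theorem exists_free [Finite K] (h2 : 2 ≤ finrank K U) :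
    ∃ g : End K U, LinearMap.det g = 1 ∧ ∀ (μ : K) v, g v = μ • v → v = 0 := by
  obtain ⟨m, hm⟩ : ∃ m, finrank K U = m + 2 := ⟨finrank K U - 2, by omega⟩
  obtain ⟨a, ha⟩ : ∃ a : K, ∀ x : Kˣ, -((x : K) ^ (m + 2) + (-1) ^ (m + 2)) / x ≠ a := by
    by_contra hcon
    push Not at hcon
    have h1 := Nat.card_le_card_of_surjective (fun x : Kˣ => -((x : K) ^ (m + 2) + (-1) ^ (m + 2)) / x) hcon
    have h3 : 0 < Nat.card K := Nat.card_pos
    rw [Nat.card_units] at h1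
    omega
  have h1 : (C a * X + C ((-1) ^ (m + 2)) : K[X]).degree < (m + 2 : ℕ) :=
    degree_linear_le.trans_lt (by exact_mod_cast (by omega : 1 < m + 2))
  have h3 : (X ^ (m + 2) + (C a * X + C ((-1) ^ (m + 2))) : K[X]).natDegree = m + 2 := by
    rw [natDegree_add_eq_left_of_degree_lt (by rwa [degree_X_pow]), natDegree_X_pow]
  obtain ⟨g, d, z, -⟩ := exists_comp (U := U) (monic_X_pow_add h1) (h3.trans hm.symm)
  refine ⟨g, ?_, fun μ v hv => ?_⟩
  · rw [d, h3, coeff_zero_eq_eval_zero]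
    simp [← mul_pow]
  · by_contra h0
    have h4 := End.aeval_apply_of_hasEigenvector (p := X ^ (m + 2) + (C a * X + C ((-1) ^ (m + 2))))
      (⟨End.mem_eigenspace_iff.2 hv, h0⟩ : g.HasEigenvector μ v)
    rw [z, LinearMap.zero_apply, eq_comm, smul_eq_zero, or_iff_left h0] at h4
    simp only [eval_add, eval_pow, eval_X, eval_mul, eval_C] at h4
    have h5 : μ ≠ 0 := fun e => by simp [e] at h4
    refine ha (Units.mk0 μ h5) ?_
    rw [Units.val_mk0, div_eq_iff h5]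
    linear_combination -h4

/-- one unipotent Jordan block -/
theorem exists_jordan : ∃ g : End K U, LinearMap.det g = 1 ∧ (g - 1) ^ finrank K U = 0 ∧
    finrank K (LinearMap.ker (g - 1)) ≤ 1 := by
  have h1 : ((X - C 1) ^ finrank K U : K[X]).natDegree = finrank K U := by
    rw [natDegree_pow, natDegree_X_sub_C, mul_one]
  obtain ⟨g, d, z, k⟩ := exists_comp (U := U) ((monic_X_sub_C 1).pow _) h1
  refine ⟨g, ?_, by simpa using z, k⟩
  rw [d, h1, coeff_zero_eq_eval_zero]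
  simp [← mul_pow]

theorem exists_glue {W Y : Submodule K V} (c : IsCompl W Y) (a : End K W) (b : End K Y) : ∃ g : End K V,
    LinearMap.det g = LinearMap.det a * LinearMap.det b ∧ (∀ w : W, g w = a w) ∧ ∀ y : Y, g y = b y := by
  refine ⟨(W.prodEquivOfIsCompl Y c : W × Y →ₗ[K] V) ∘ₗ a.prodMap b ∘ₗ ((W.prodEquivOfIsCompl Y c).symm : V →ₗ[K] W × Y),
    by rw [LinearMap.det_conj, LinearMap.det_prodMap], fun w => ?_, fun y => ?_⟩ <;> simp

theorem sb_of_res {g : End K V} {Y : Submodule K V} {b : End K Y} (hb : ∀ y : Y, g y = b y) {N : ℕ} (h1 : (b - 1) ^ N = 0)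
    (h2 : finrank K (LinearMap.ker (b - 1)) ≤ 1) : Sb (g - 1) Y := by
  have k : ∀ y : Y, (g - 1) y = (b - 1) y := fun y => by simp [hb]
  refine ⟨fun v hv => k ⟨v, hv⟩ ▸ ((b - 1) ⟨v, hv⟩).2, ⟨N, fun v hv => ?_⟩, ?_⟩
  · have h3 : ∀ (n : ℕ) (y : Y), ((g - 1) ^ n) y = ((b - 1) ^ n) y := fun n => by
      induction n with
      | zero => simp
      | succ n ih => exact fun y => by rw [pow_succ, pow_succ, End.mul_apply, End.mul_apply, k, ih]
    rw [h3 N ⟨v, hv⟩, h1]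
    rfl
  · refine (finrank_mono (?_ : _ ≤ (LinearMap.ker (b - 1)).map Y.subtype)).trans
      ((finrank_map_le _ _).trans h2)
    exact fun v hv => ⟨⟨v, hv.2⟩, Subtype.ext ((k ⟨v, hv.2⟩).symm.trans hv.1), rfl⟩

theorem Iv.sub_one {g : End K V} {X : Submodule K V} (h : Iv g X) : Iv (g - 1) X := fun v hv => X.sub_mem (h v hv) hv

/-- **a rigid element of `SL(W) × SL(Y)`** -/
theorem exists_rigid [Finite K] {W Y : Submodule K V} (c : IsCompl W Y) (h0 : 0 < finrank K W)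
    (hle : finrank K W ≤ finrank K Y) (h2 : 2 ≤ finrank K Y) : ∃ g : End K V, LinearMap.det g = 1 ∧ Iv g W ∧ Iv g Y ∧
      ∀ Z Z', IsCompl Z Z' → Iv g Z → Iv g Z' → finrank K Z = finrank K W → (Z = W ∧ Z' = Y) ∨ (Z' = W ∧ Z = Y) := by
  by_cases h1 : finrank K W = 1
  · obtain ⟨b, db, hb⟩ := exists_free (U := Y) h2
    obtain ⟨g, dg, gw, gy⟩ := exists_glue c 1 b
    have i1 : Iv g W := fun v hv => gw ⟨v, hv⟩ ▸ hv
    have i2 : Iv g Y := fun v hv => gy ⟨v, hv⟩ ▸ (b ⟨v, hv⟩).2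
    have k : ∀ (μ : K), ∀ v ∈ Y, g v = μ • v → v = 0 := fun μ v hv e =>
      congrArg Subtype.val (hb μ ⟨v, hv⟩ (Subtype.ext ((gy ⟨v, hv⟩).symm.trans e)))
    have p : Pm (g - 1) W Y := ⟨c.sup_eq_top, i1.sub_one, i2.sub_one,
      nl_of_zero fun v hv => sub_eq_zero.2 (gw ⟨v, hv⟩), fun v hv e => k 1 v hv (by rw [one_smul]; exact sub_eq_zero.1 e)⟩
    refine ⟨g, by rw [dg, db, map_one, mul_one], i1, i2, fun Z Z' c' hZ hZ' d => Or.inl ?_⟩
    have h3 : Z ⊓ Y = ⊥ := eq_bot_iff.2 fun v hv => by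
      by_contra h4
      have h5 : K ∙ v = Z := eq_of_le_of_finrank_le ((span_singleton_le_iff_mem _ _).2 hv.1)
        (by rw [finrank_span_singleton h4, d, h1])
      obtain ⟨μ, e⟩ := mem_span_singleton.1 (h5.ge (hZ v hv.1))
      exact h4 (k μ v hv.2 e.symm)
    have h4 := p.prim hZ.sub_one
    rw [h3, sup_bot_eq] at h4
    obtain rfl : Z = W := eq_of_le_of_finrank_le (h4 ▸ inf_le_right) d.ge
    exact ⟨rfl, p.other' hZ'.sub_one c'⟩
  · obtain ⟨a, da, ha⟩ := exists_free (K := K) (U := W) (by omega)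
    obtain ⟨b, db, b1, b2⟩ := exists_jordan (K := K) (U := Y)
    obtain ⟨g, dg, gw, gy⟩ := exists_glue c a b
    have i1 : Iv g W := fun v hv => gw ⟨v, hv⟩ ▸ (a ⟨v, hv⟩).2
    have i2 : Iv g Y := fun v hv => gy ⟨v, hv⟩ ▸ (b ⟨v, hv⟩).2
    have s := sb_of_res gy b1 b2
    have p : Pm (g - 1) Y W := ⟨c.symm.sup_eq_top, s.iv, i1.sub_one, s.nl, fun v hv e => congrArg Subtype.val
      (ha 1 ⟨v, hv⟩ (by rw [one_smul]; exact Subtype.ext ((gw ⟨v, hv⟩).symm.trans (sub_eq_zero.1 e))))⟩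
    refine ⟨g, by rw [dg, da, db, mul_one], i1, i2, fun Z Z' c' hZ hZ' d => ?_⟩
    have h3 : cyc (g - 1) (0 : V) = ⊥ := by rw [cyc_of_zero (map_zero _), span_zero_singleton]
    have d1 := finrank_add_eq_of_isCompl c
    have d2 := finrank_add_eq_of_isCompl c'
    obtain ⟨y, hy⟩ := p.uni s (x₀ := 0) (j := 0) (by rw [h3, bot_sup_eq]) (zero_add _).symm (by rw [h3, finrank_bot])
      (by omega) hZ.sub_one hZ'.sub_one c' (by omega) (by omega)
    rw [show (y : V) = 0 from y.2.1, add_zero, h3, bot_sup_eq] at hy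
    rcases hy with rfl | rfl
    · exact Or.inl ⟨rfl, p.other hZ'.sub_one c'⟩
    · exact Or.inr ⟨rfl, p.other hZ.sub_one c'.symm⟩

theorem idem_compl {E : End K V} (h : E * E = E) : IsCompl (LinearMap.range E) (LinearMap.ker E) :=
  LinearMap.IsIdempotentElem.isCompl h

theorem idem_ext {E E' : End K V} (h : E * E = E) (h' : E' * E' = E') (h1 : LinearMap.range E' = LinearMap.range E)
    (h2 : LinearMap.ker E' = LinearMap.ker E) : E' = E := LinearMap.ext fun v => by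
  obtain ⟨_, ⟨a, rfl⟩, b, hb, rfl⟩ := mem_sup.1 ((idem_compl h).sup_eq_top ▸ mem_top : v ∈ _)
  obtain ⟨a', ha⟩ : E a ∈ LinearMap.range E' := h1 ▸ ⟨a, rfl⟩
  rw [map_add, map_add, (h2.ge hb : E' b = 0), (hb : E b = 0), ← End.mul_apply E E, h, ← ha, ← End.mul_apply, h']

theorem range_one_sub {E : End K V} (h : E * E = E) :
    LinearMap.range (1 - E) = LinearMap.ker E ∧ LinearMap.ker (1 - E) = LinearMap.range E := by
  constructor <;> ext v
  · refine ⟨?_, fun k => ⟨v, by simp [LinearMap.mem_ker.1 k]⟩⟩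
    rintro ⟨x, rfl⟩
    rw [LinearMap.mem_ker, ← End.mul_apply, mul_sub, mul_one, h, sub_self, LinearMap.zero_apply]
  · refine ⟨fun k => ⟨v, (sub_eq_zero.1 k).symm⟩, ?_⟩
    rintro ⟨x, rfl⟩
    rw [LinearMap.mem_ker, ← End.mul_apply, sub_mul, one_mul, h, sub_self, LinearMap.zero_apply]

theorem iv_of_comm {g E : End K V} (h : g * E = E * g) : Iv g (LinearMap.range E) ∧ Iv g (LinearMap.ker E) :=
  ⟨by rintro _ ⟨x, rfl⟩; exact ⟨g x, by rw [← End.mul_apply, ← h, End.mul_apply]⟩, fun v hv => by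
    rw [LinearMap.mem_ker, ← End.mul_apply, ← h, End.mul_apply, (hv : E v = 0), map_zero]⟩

theorem comm_of_iv {g E : End K V} (h : E * E = E) (h1 : Iv g (LinearMap.range E)) (h2 : Iv g (LinearMap.ker E)) (v : V) :
    g (E v) = E (g v) := by
  obtain ⟨_, ⟨a, rfl⟩, b, hb, rfl⟩ := mem_sup.1 ((idem_compl h).sup_eq_top ▸ mem_top : v ∈ _)
  obtain ⟨a', ha⟩ := h1 _ ⟨a, rfl⟩
  rw [map_add, map_add g (E a) b, map_add E, (hb : E b = 0), (h2 b hb : E (g b) = 0), ← End.mul_apply E E a, h,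
    add_zero, add_zero, ← ha, ← End.mul_apply E E, h]

end lin

theorem finrank_cj {A K V : Type} [Ring A] [Field K] [AddCommGroup V] [Module K V] [FiniteDimensional K V]
    (π : A →+* End K V) (a : Aˣ) (e : A) :
    finrank K (LinearMap.range (π (DS.Cl.cj A a e))) = finrank K (LinearMap.range (π e)) := by
  have k : ∀ (a : Aˣ) (e : A), finrank K (LinearMap.range (π (DS.Cl.cj A a e))) ≤ finrank K (LinearMap.range (π e)) :=
    fun a e => by
      refine (finrank_mono ?_).trans (finrank_map_le (π a) (LinearMap.range (π e)))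
      rintro _ ⟨v, rfl⟩
      exact ⟨_, ⟨π (a⁻¹ : Aˣ) v, rfl⟩, by rw [cj_apply, map_mul π, map_mul π]; rfl⟩
  refine le_antisymm (k a e) ?_
  have := k a⁻¹ (DS.Cl.cj A a e)
  rwa [map_inv, ra_inv_apply] at this

/-- **[Fix, L]** -/
theorem fixL3 : OnL 3 pFix := by
  intro K _ _ n F H p k hn c hD
  have hψ : ∀ x y : LR (Fin n) K, SI x → SI y → prL n K x = prL n K y → x = y := fun x y hx hy e =>
    sub_eq_zero.1 (TH.Cl.prL_sep _ (by rw [map_sub, e, sub_self]) (by rw [star_sub, hx.symm, hy.symm, map_sub, e, sub_self]))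
  have hi : ∀ x : LR (Fin n) K, SI x → prL n K x * prL n K x = prL n K x := fun x hx => by rw [← map_mul, hx.idem]
  have main : ∀ e : LR (Fin n) K, e ≠ 0 → e ≠ 1 → SI e → (∀ γ ∈ H, γ e = e) →
      finrank K (LinearMap.range (prL n K e)) ≤ finrank K (LinearMap.ker (prL n K e)) → Gd F H := by
    intro e h0 h1 he hH hle
    have c' := idem_compl (hi e he)
    have d := finrank_add_eq_of_isCompl c'
    rw [finrank_fin_fun] at d
    obtain ⟨g, dg, i1, i2, hg⟩ := exists_rigid c' (Nat.pos_of_ne_zero fun z => h0 (hψ _ _ he ⟨mul_zero _, star_zero _⟩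
      (by rw [map_zero]; exact LinearMap.range_eq_bot.1 (finrank_eq_zero.1 z)))) hle (by omega)
    obtain ⟨u, hu, rfl⟩ := k.exists_lift dg
    refine gd_ring c h0 h1 he hH (prL n K) hψ hu (TH.Cl.Big.comm_of_pi TH.Cl.prL_sep (FR.comm_le_Iso hu) he.symm
      (comm_of_iv (hi e he) i1 i2)) (fun _ : Unit => prL n K e) (fun a ha hc => ⟨(), ?_⟩) (fun _ : Unit => 1)
      (fun _ => one_mem _) (fun _ _ _ => rfl) (by simp)
    have hs := he.map (FR.cj_mem_Aut ha)
    obtain ⟨j1, j2⟩ := iv_of_comm (g := prL n K u) (E := prL n K (DS.Cl.cj _ a e)) (by rw [← map_mul, hc, map_mul])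
    rcases hg _ _ (idem_compl (hi _ hs)) j1 j2 (finrank_cj _ a e) with ⟨a1, a2⟩ | ⟨a1, a2⟩
    · exact Or.inl (idem_ext (hi e he) (hi _ hs) a1 a2)
    · refine Or.inr (idem_ext (hi e he) (hi _ hs.compl) ?_ ?_) <;> rw [map_sub, map_one]
      · exact (range_one_sub (hi _ hs)).1.trans a1
      · exact (range_one_sub (hi _ hs)).2.trans a2
  obtain ⟨e, h0, h1, h2, h3, hH⟩ := hD
  rcases le_total (finrank K (LinearMap.range (prL n K e))) (finrank K (LinearMap.ker (prL n K e))) with l | l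
  · exact main e h0 h1 ⟨h2, h3⟩ hH l
  · refine main (1 - e) (sub_ne_zero.2 h1.symm) (fun k => h0 (sub_eq_self.1 k)) (SI.compl ⟨h2, h3⟩)
      (fun γ hγ => by rw [map_sub, map_one, hH γ hγ]) ?_
    rwa [map_sub, map_one, (range_one_sub (hi e ⟨h2, h3⟩)).1, (range_one_sub (hi e ⟨h2, h3⟩)).2]

end Cfsg.Agent.N2.C1

/-- **[Fix, L]** -/
theorem Cfsg.Agent.N2C.fixL : Cfsg.Agent.N2C.OnL 5 Cfsg.Agent.N2C.pFix := fun K _ _ n F H p k hn c hD =>
  Cfsg.Agent.N2.C1.fixL3 K n F H p k (by omega) c hD
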