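import Cfsg.Agent.N2.Tool

/-!
# N2 (S3519), class C1: counting cosets by labels; invariant decompositions of an endomorphism (helper43)

* `good_of_cand` : the fixed cosets are labelled by `J`, the cosets contain a copy of `I`, `|J|³ ≤ |I|`.
* `Sb T Y` : `T` is nilpotent on `Y` with one Jordan block; `prim` (primary decomposition), `big`, `small`, `uni`, `pt`.
-/

set_option autoImplicit false
set_option linter.unusedSectionVars false

namespace Cfsg.Agent.N2.C1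

open Cfsg.Agent.FP3 Module Submodule

theorem good_of_cand {G X J I : Type*} [Group G] [Finite G] [Finite J] {B : Subgroup G} (φ φ' : G → X)
    (h1 : ∀ a b, φ a = φ b → a⁻¹ * b ∈ B) (h2 : ∀ a b, φ' a = φ' b → a⁻¹ * b ∈ B) (h3 : ∀ a b, φ a ≠ φ' b)
    {g : G} (hg : g ∈ B) (cand : J → X) (hc : ∀ a, a⁻¹ * g * a ∈ B → ∃ j, φ a = cand j ∨ φ' a = cand j)
    (ι : I → G) (hι : ∀ i i', (ι i)⁻¹ * ι i' ∈ B → i = i') (hn : Nat.card J ^ 3 ≤ Nat.card I) : Good B := by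
  refine ⟨g, hg, (Nat.pow_le_pow_left (i := 3) (m := Nat.card J) ?_).trans (hn.trans ?_)⟩
  · have k : ∀ x : MulAction.fixedBy (G ⧸ B) g, ∃ j, φ x.1.out = cand j ∨ φ' x.1.out = cand j := fun x =>
      hc _ ((smul_mk_iff B g _).1 (by rw [QuotientGroup.out_eq']; exact x.2))
    choose f hf using k
    refine Nat.card_le_card_of_injective f fun x y e => Subtype.ext ?_
    rw [← QuotientGroup.out_eq' x.1, ← QuotientGroup.out_eq' y.1, QuotientGroup.eq]
    rcases hf x with a | a <;> rcases hf y with b | b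
    · exact h1 _ _ (by rw [a, b, e])
    · exact absurd (by rw [a, b, e]) (h3 _ _)
    · exact absurd (by rw [a, b, e]) (h3 y.1.out x.1.out)
    · exact h2 _ _ (by rw [a, b, e])
  · exact Nat.card_le_card_of_injective (fun i => (ι i : G ⧸ B)) fun i i' e => hι _ _ (QuotientGroup.eq.1 e)

variable {K V : Type*} [Field K] [AddCommGroup V] [Module K V]

/-- an invariant subspace -/
def Iv (T : End K V) (X : Submodule K V) : Prop := ∀ v ∈ X, T v ∈ X

/-- nilpotent on a subspace -/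
def Nl (T : End K V) (X : Submodule K V) : Prop := ∃ N : ℕ, ∀ v ∈ X, (T ^ N) v = 0

/-- injective on a subspace -/
def Ij (T : End K V) (X : Submodule K V) : Prop := ∀ v ∈ X, T v = 0 → v = 0

/-- one nilpotent Jordan block -/
structure Sb (T : End K V) (Y : Submodule K V) : Prop where
  iv : Iv T Y
  nl : Nl T Y
  ker : finrank K ↥(LinearMap.ker T ⊓ Y) ≤ 1

variable {T T' : End K V} {X X' X₀ Y Z Z' U : Submodule K V}

theorem Iv.pow (h : Iv T X) (n : ℕ) : Iv (T ^ n) X := by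
  induction n with
  | zero => exact fun v hv => hv
  | succ n ih => exact fun v hv => by rw [pow_succ, End.mul_apply]; exact ih _ (h v hv)

theorem Iv.inf (h : Iv T X) (h' : Iv T X') : Iv T (X ⊓ X') := fun v hv => ⟨h v hv.1, h' v hv.2⟩

theorem Iv.sup (h : Iv T X) (h' : Iv T X') : Iv T (X ⊔ X') := fun v hv => by
  obtain ⟨a, ha, b, hb, rfl⟩ := mem_sup.1 hv
  rw [map_add]
  exact add_mem_sup (h a ha) (h' b hb)

theorem Iv.sub (h : Iv T X) (c : K) : Iv (T - c • 1) X := fun v hv => X.sub_mem (h v hv) (X.smul_mem c hv)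

theorem iv_of_zero (h : ∀ v ∈ X, T v = 0) : Iv T X := fun v hv => by rw [h v hv]; exact X.zero_mem

theorem Ij.pow (h : Ij T X) (hi : Iv T X) (n : ℕ) : Ij (T ^ n) X := by
  induction n with
  | zero => exact fun v _ e => e
  | succ n ih => exact fun v hv e => h v hv (ih _ (hi v hv) (by rwa [pow_succ, End.mul_apply] at e))

theorem Nl.mono (h : Nl T X) (hle : X' ≤ X) : Nl T X' := h.imp fun _ k v hv => k v (hle hv)

theorem pow_add_zero {v : V} {n : ℕ} (h : (T ^ n) v = 0) (m : ℕ) : (T ^ (m + n)) v = 0 := by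
  rw [pow_add, End.mul_apply, h, map_zero]

theorem Nl.sup (h : Nl T X) (h' : Nl T X') : Nl T (X ⊔ X') := by
  obtain ⟨n, hn⟩ := h
  obtain ⟨m, hm⟩ := h'
  refine ⟨m + n, fun v hv => ?_⟩
  obtain ⟨a, ha, b, hb, rfl⟩ := mem_sup.1 hv
  rw [map_add, pow_add_zero (hn a ha), add_comm m, pow_add_zero (hm b hb), add_zero]

theorem nl_of_zero (h : ∀ v ∈ X, T v = 0) : Nl T X := ⟨1, by simpa using h⟩

theorem pow_congr (h : Iv T X) {c : K} (e : ∀ v ∈ X, T' v = c • T v) (n : ℕ) : ∀ v ∈ X, (T' ^ n) v = c ^ n • (T ^ n) v := by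
  induction n with
  | zero => simp
  | succ n ih =>
    intro v hv
    rw [pow_succ', End.mul_apply, ih v hv, map_smul, e _ (h.pow n v hv), smul_smul, ← pow_succ, pow_succ' T,
      End.mul_apply]

theorem Sb.congr (h : Sb T Y) {c : K} (hc : c ≠ 0) (e : ∀ v ∈ Y, T' v = c • T v) : Sb T' Y where
  iv v hv := by rw [e v hv]; exact Y.smul_mem c (h.iv v hv)
  nl := h.nl.imp fun n k v hv => by rw [pow_congr h.iv e n v hv, k v hv, smul_zero]
  ker := by
    have : LinearMap.ker T' ⊓ Y = LinearMap.ker T ⊓ Y := by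
      ext v
      simp only [mem_inf, LinearMap.mem_ker]
      exact and_congr_left fun hv => by rw [e v hv, smul_eq_zero, or_iff_right hc]
    rw [this]
    exact h.ker

/-- the smallest invariant subspace which contains `v` -/
def cyc (T : End K V) (v : V) : Submodule K V := sInf {U | v ∈ U ∧ Iv T U}

theorem mem_cyc (T : End K V) (v : V) : v ∈ cyc T v := mem_sInf.2 fun _ h => h.1

theorem iv_cyc (T : End K V) (v : V) : Iv T (cyc T v) := fun x hx => mem_sInf.2 fun U h => h.2 x (mem_sInf.1 hx U h)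

theorem cyc_le {v : V} (h : v ∈ U) (h' : Iv T U) : cyc T v ≤ U := sInf_le ⟨h, h'⟩

variable [FiniteDimensional K V]

theorem Nl.fin (h : Nl T U) (hi : Iv T U) {j : ℕ} (hj : finrank K U ≤ j) {v : V} (hv : v ∈ U) : (T ^ j) v = 0 := by
  obtain ⟨n, hn⟩ := h
  have h1 : (⟨v, hv⟩ : U) ∈ LinearMap.ker (T.restrict hi ^ n) := by
    rw [LinearMap.mem_ker, End.pow_restrict n hi]
    exact Subtype.ext (hn v hv)
  have h2 := End.ker_pow_le_ker_pow_finrank (T.restrict hi) n h1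
  rw [LinearMap.mem_ker, End.pow_restrict _ hi] at h2
  obtain ⟨m, rfl⟩ := Nat.exists_eq_add_of_le' hj
  exact pow_add_zero (congrArg Subtype.val h2) m

theorem Nl.exists_ker (h : Nl T U) (hi : Iv T U) (h0 : U ≠ ⊥) : ∃ v ∈ U, v ≠ 0 ∧ T v = 0 := by
  by_contra hcon
  push Not at hcon
  obtain ⟨n, hn⟩ := h
  refine h0 (eq_bot_iff.2 fun v hv => Ij.pow (fun v hv e => ?_) hi n v hv (hn v hv))
  by_contra h1
  exact hcon v hv h1 e

theorem finrank_ker_mul (S : End K V) (hi : Iv T Y) : finrank K ↥(LinearMap.ker (S * T) ⊓ Y) ≤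
    finrank K ↥(LinearMap.ker S ⊓ Y) + finrank K ↥(LinearMap.ker T ⊓ Y) := by
  have h1 := LinearMap.finrank_range_add_finrank_ker (T.domRestrict (LinearMap.ker (S * T) ⊓ Y))
  have h2 : LinearMap.range (T.domRestrict (LinearMap.ker (S * T) ⊓ Y)) ≤ LinearMap.ker S ⊓ Y := by
    rintro _ ⟨v, rfl⟩
    exact ⟨v.2.1, hi _ v.2.2⟩
  have h3 : (LinearMap.ker (T.domRestrict (LinearMap.ker (S * T) ⊓ Y))).map (Submodule.subtype _) ≤
      LinearMap.ker T ⊓ Y := by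
    rintro _ ⟨v, hv, rfl⟩
    exact ⟨hv, v.2.2⟩
  have h4 := finrank_mono h2
  have h5 := finrank_mono h3
  rw [finrank_map_subtype_eq] at h5
  omega

theorem Sb.ker_pow (h : Sb T Y) (j : ℕ) : finrank K ↥(LinearMap.ker (T ^ j) ⊓ Y) ≤ j := by
  induction j with
  | zero => rw [pow_zero, End.one_eq_id, LinearMap.ker_id, bot_inf_eq, finrank_bot]
  | succ j ih =>
    have := finrank_ker_mul (T ^ j) h.iv
    have := h.ker
    rw [pow_succ]
    omega

theorem Sb.card_ker [Finite K] (h : Sb T Y) (j : ℕ) : Nat.card ↥(LinearMap.ker (T ^ j) ⊓ Y) ≤ Nat.card K ^ j := by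
  rw [natCard_eq_pow_finrank (K := K)]
  exact Nat.pow_le_pow_right Nat.card_pos (h.ker_pow j)

/-- a non-zero invariant subspace of a Jordan block contains the kernel -/
theorem Sb.ker_le (h : Sb T Y) (hi : Iv T U) (h0 : U ⊓ Y ≠ ⊥) : LinearMap.ker T ⊓ Y ≤ U := by
  obtain ⟨v, hv, h1, h2⟩ := (h.nl.mono inf_le_right).exists_ker (hi.inf h.iv) h0
  have h3 : K ∙ v = LinearMap.ker T ⊓ Y := eq_of_le_of_finrank_le ((span_singleton_le_iff_mem _ _).2 ⟨h2, hv.2⟩)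
    (by rw [finrank_span_singleton h1]; exact h.ker)
  exact h3 ▸ (span_singleton_le_iff_mem _ _).2 hv.1

/-- **one of two invariant subspaces which span a Jordan block is large** -/
theorem Sb.big (h : Sb T Y) (hZ : Iv T Z) (hZ' : Iv T Z') (n : Nl T Z) (n' : Nl T Z') (hle : Y ≤ Z ⊔ Z') :
    finrank K Y ≤ finrank K Z ∨ finrank K Y ≤ finrank K Z' := by
  by_contra hcon
  push Not at hcon
  obtain ⟨m, hm⟩ : ∃ m, finrank K Y = m + 1 := ⟨finrank K Y - 1, by omega⟩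
  have h1 : Y ≤ LinearMap.ker (T ^ m) ⊓ Y := fun v hv => ⟨by
    obtain ⟨a, ha, b, hb, rfl⟩ := mem_sup.1 (hle hv)
    rw [SetLike.mem_coe, LinearMap.mem_ker, map_add, n.fin hZ (by omega) ha, n'.fin hZ' (by omega) hb, add_zero], hv⟩
  have := (finrank_mono h1).trans (h.ker_pow m)
  omega

theorem finrank_sup_of (h : X ⊓ X' = ⊥) : finrank K ↥(X ⊔ X') = finrank K X + finrank K X' := by
  rw [← finrank_sup_add_finrank_inf_eq, h, finrank_bot, add_zero]

/-- the data of a primary decomposition -/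
structure Pm (T : End K V) (X X' : Submodule K V) : Prop where
  sup : X ⊔ X' = ⊤
  iv : Iv T X
  iv' : Iv T X'
  nl : Nl T X
  ij : Ij T X'

namespace Pm

variable (p : Pm T X X')
include p

theorem inf : X ⊓ X' = ⊥ := by
  obtain ⟨n, hn⟩ := p.nl
  exact eq_bot_iff.2 fun v hv => p.ij.pow p.iv' n v hv.2 (hn v hv.1)

/-- **primary decomposition** -/
theorem prim (hZ : Iv T Z) : Z ⊓ X ⊔ Z ⊓ X' = Z := by
  refine le_antisymm (sup_le inf_le_left inf_le_left) fun z hz => ?_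
  obtain ⟨n, hn⟩ := p.nl
  obtain ⟨a, ha, b, hb, rfl⟩ := mem_sup.1 (p.sup ▸ mem_top : z ∈ X ⊔ X')
  have hi := (hZ.inf p.iv').pow n
  have hj := p.ij.pow p.iv' n
  have h1 : Function.Injective ((T ^ n).restrict hi) := (injective_iff_map_eq_zero _).2 fun v e =>
    Subtype.ext (hj _ v.2.2 (congrArg Subtype.val e))
  obtain ⟨w, hw⟩ := LinearMap.injective_iff_surjective.1 h1 ⟨(T ^ n) b, by
    simpa [hn a ha] using hZ.pow n _ hz, p.iv'.pow n b hb⟩
  have h2 : (w : V) = b := sub_eq_zero.1 (hj _ (X'.sub_mem w.2.2 hb) (by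
    rw [map_sub, sub_eq_zero]; exact congrArg Subtype.val hw))
  have h3 : b ∈ Z := h2 ▸ w.2.1
  exact add_mem_sup ⟨by simpa using Z.sub_mem hz h3, ha⟩ ⟨h3, hb⟩

theorem dim (hZ : Iv T Z) : finrank K Z = finrank K ↥(Z ⊓ X) + finrank K ↥(Z ⊓ X') := by
  rw [← finrank_sup_of (X := Z ⊓ X) (X' := Z ⊓ X') (eq_bot_iff.2 fun v hv => p.inf.le ⟨hv.1.2, hv.2.2⟩), p.prim hZ]

theorem split (hZ : Iv T Z) (hZ' : Iv T Z') (c : Z ⊔ Z' = ⊤) : Z ⊓ X ⊔ Z' ⊓ X = X ∧ Z ⊓ X' ⊔ Z' ⊓ X' = X' := by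
  have k : ∀ v, ∃ a ∈ Z ⊓ X ⊔ Z' ⊓ X, ∃ b ∈ Z ⊓ X' ⊔ Z' ⊓ X', a + b = v := fun v => by
    obtain ⟨z, hz, z', hz', rfl⟩ := mem_sup.1 (c ▸ mem_top : v ∈ Z ⊔ Z')
    obtain ⟨a, ha, b, hb, rfl⟩ := mem_sup.1 ((p.prim hZ).ge hz)
    obtain ⟨a', ha', b', hb', rfl⟩ := mem_sup.1 ((p.prim hZ').ge hz')
    exact ⟨_, add_mem_sup ha ha', _, add_mem_sup hb hb', by abel⟩
  have l1 : Z ⊓ X ⊔ Z' ⊓ X ≤ X := sup_le inf_le_right inf_le_right
  have l2 : Z ⊓ X' ⊔ Z' ⊓ X' ≤ X' := sup_le inf_le_right inf_le_right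
  refine ⟨le_antisymm l1 fun v hv => ?_, le_antisymm l2 fun v hv => ?_⟩ <;> obtain ⟨a, ha, b, hb, rfl⟩ := k v
  · have : b = 0 := p.inf.le ⟨by simpa using X.sub_mem hv (l1 ha), l2 hb⟩
    simpa [this] using ha
  · have : a = 0 := p.inf.le ⟨l1 ha, by simpa using X'.sub_mem hv (l2 hb)⟩
    simpa [this] using hb

theorem dim_split (hZ : Iv T Z) (hZ' : Iv T Z') (c : IsCompl Z Z') :
    finrank K ↥(Z ⊓ X) + finrank K ↥(Z' ⊓ X) = finrank K X ∧
      finrank K ↥(Z ⊓ X') + finrank K ↥(Z' ⊓ X') = finrank K X' := by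
  obtain ⟨h1, h2⟩ := p.split hZ hZ' c.sup_eq_top
  constructor
  · rw [← finrank_sup_of (X := Z ⊓ X) (X' := Z' ⊓ X) (eq_bot_iff.2 fun v hv => c.inf_eq_bot.le ⟨hv.1.1, hv.2.1⟩), h1]
  · rw [← finrank_sup_of (X := Z ⊓ X') (X' := Z' ⊓ X') (eq_bot_iff.2 fun v hv => c.inf_eq_bot.le ⟨hv.1.1, hv.2.1⟩), h2]

theorem big (h : Sb T Y) (hY : Y ≤ X) (hZ : Iv T Z) (hZ' : Iv T Z') (c : IsCompl Z Z') :
    finrank K Y ≤ finrank K ↥(Z ⊓ X) ∨ finrank K Y ≤ finrank K ↥(Z' ⊓ X) :=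
  h.big (hZ.inf p.iv) (hZ'.inf p.iv) (p.nl.mono inf_le_right) (p.nl.mono inf_le_right)
    (hY.trans (p.split hZ hZ' c.sup_eq_top).1.ge)

/-- the complement of a primary component -/
theorem other (hZ' : Iv T Z') (c : IsCompl X' Z') : Z' = X := by
  have h1 := p.prim hZ'
  rw [inf_comm Z' X', c.inf_eq_bot, sup_bot_eq] at h1
  have h2 := finrank_add_eq_of_isCompl c
  have h3 := finrank_add_eq_of_isCompl (IsCompl.of_eq p.inf p.sup)
  exact eq_of_le_of_finrank_le (h1 ▸ inf_le_right) (by omega)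

theorem other' (hZ' : Iv T Z') (c : IsCompl X Z') : Z' = X' := by
  have h1 := p.prim hZ'
  rw [inf_comm Z' X, c.inf_eq_bot, bot_sup_eq] at h1
  have h2 := finrank_add_eq_of_isCompl c
  have h3 := finrank_add_eq_of_isCompl (IsCompl.of_eq p.inf p.sup)
  exact eq_of_le_of_finrank_le (h1 ▸ inf_le_right) (by omega)

theorem small (h : Sb T Y) {x₀ : V} (hX : cyc T x₀ ⊔ Y = X) {j : ℕ} (hj : finrank K X = j + finrank K Y)
    (hj' : finrank K (cyc T x₀) ≤ j) (hd : j < finrank K Y) (hZ : Iv T Z) (hZ' : Iv T Z') (c : IsCompl Z Z')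
    (hb : finrank K Y ≤ finrank K ↥(Z' ⊓ X)) (hz : j + finrank K X' ≤ finrank K Z) :
    ∃ y : ↥(LinearMap.ker (T ^ j) ⊓ Y), Z = cyc T (x₀ + y) ⊔ X' := by
  have hY : Y ≤ X := hX ▸ le_sup_right
  have d1 := p.dim hZ
  have d2 := (p.dim_split hZ hZ' c).1
  have d3 : finrank K ↥(Z ⊓ X') ≤ finrank K X' := finrank_mono inf_le_right
  have e1 : Z ⊓ X' = X' := eq_of_le_of_finrank_le inf_le_right (by omega)
  have e2 : Z' ⊓ X ⊓ Y ≠ ⊥ := fun e => by
    have h1 := finrank_sup_of e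
    have h2 : finrank K ↥(Z' ⊓ X ⊔ Y) ≤ finrank K X := finrank_mono (sup_le inf_le_right hY)
    omega
  have e3 : Z ⊓ X ⊓ Y = ⊥ := by
    by_contra e
    obtain ⟨v, hv, h1, h2⟩ := h.nl.exists_ker h.iv fun e' => by rw [e', finrank_bot] at hd; omega
    exact h1 (c.inf_eq_bot.le ⟨(h.ker_le (hZ.inf p.iv) e ⟨h2, hv⟩).1, (h.ker_le (hZ'.inf p.iv) e2 ⟨h2, hv⟩).1⟩)
  have e4 : Z ⊓ X ⊔ Y = X := eq_of_le_of_finrank_le (sup_le inf_le_right hY) (by rw [finrank_sup_of e3]; omega)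
  obtain ⟨z, hz', y, hy, e5⟩ := mem_sup.1 (e4.ge (hX.le (mem_sup_left (mem_cyc T x₀))))
  have e6 : z = x₀ + -y := by rw [← e5, add_neg_cancel_right]
  have e7 : (T ^ j) y = 0 := by
    have h1 := (p.nl.mono inf_le_right).fin (hZ.inf p.iv) (j := j) (by omega) hz'
    have h2 := (p.nl.mono (hX ▸ le_sup_left)).fin (iv_cyc T x₀) hj' (mem_cyc T x₀)
    rwa [← e5, map_add, h1, zero_add] at h2
  refine ⟨⟨-y, by rw [SetLike.mem_coe, LinearMap.mem_ker, map_neg, e7, neg_zero], Y.neg_mem hy⟩, ?_⟩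
  have e8 : cyc T z ≤ Z ⊓ X := cyc_le hz' (hZ.inf p.iv)
  have e9 : X ≤ cyc T z ⊔ Y := hX.ge.trans (sup_le (cyc_le (e5 ▸ add_mem_sup (mem_cyc T z) hy)
    ((iv_cyc T z).sup h.iv)) le_sup_right)
  have e10 := (finrank_mono e9).trans (finrank_add_le_finrank_add_finrank _ _)
  rw [← e6, eq_of_le_of_finrank_le e8 (by omega), ← e1, p.prim hZ]

/-- **the invariant decompositions, `X = ⟨x₀⟩ ⊕ Y`, `Y` a large Jordan block** -/
theorem uni (h : Sb T Y) {x₀ : V} (hX : cyc T x₀ ⊔ Y = X) {j : ℕ} (hj : finrank K X = j + finrank K Y)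
    (hj' : finrank K (cyc T x₀) ≤ j) (hd : j < finrank K Y) (hZ : Iv T Z) (hZ' : Iv T Z') (c : IsCompl Z Z')
    (hz : j + finrank K X' ≤ finrank K Z) (hz' : j + finrank K X' ≤ finrank K Z') :
    ∃ y : ↥(LinearMap.ker (T ^ j) ⊓ Y), Z = cyc T (x₀ + y) ⊔ X' ∨ Z' = cyc T (x₀ + y) ⊔ X' := by
  rcases p.big h (hX ▸ le_sup_right) hZ hZ' c with k | k
  · exact (p.small h hX hj hj' hd hZ' hZ c.symm k hz').imp fun _ => Or.inr
  · exact (p.small h hX hj hj' hd hZ hZ' c k hz).imp fun _ => Or.inl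

end Pm

theorem cyc_of_zero {v : V} (h : T v = 0) : cyc T v = K ∙ v :=
  le_antisymm (cyc_le (mem_span_singleton_self v) (iv_of_zero fun x hx => by
    obtain ⟨c, rfl⟩ := mem_span_singleton.1 hx
    rw [map_smul, h, smul_zero])) ((span_singleton_le_iff_mem _ _).2 (mem_cyc T v))

/-- the points of `ker T ⊓ (⟨x₀⟩ ⊕ Y)` -/
def pts (T : End K V) (x₀ : V) (Y : Submodule K V) : Option ↥(LinearMap.ker (T ^ 1) ⊓ Y) → Submodule K V
  | none => LinearMap.ker T ⊓ Y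
  | some w => K ∙ (x₀ + w)

theorem Sb.pt (h : Sb T Y) {x₀ : V} (h0 : T x₀ = 0) (hU : Iv T U) (hle : U ≤ K ∙ x₀ ⊔ Y) (h1 : finrank K U = 1) :
    ∃ j, U = pts T x₀ Y j := by
  have n : Nl T U := ((nl_of_zero fun x hx => by
    obtain ⟨c, rfl⟩ := mem_span_singleton.1 hx
    rw [map_smul, h0, smul_zero]).sup h.nl).mono hle
  obtain ⟨v, hv, h2, h3⟩ := n.exists_ker hU fun e => by rw [e, finrank_bot] at h1; omega
  have e : K ∙ v = U := eq_of_le_of_finrank_le ((span_singleton_le_iff_mem _ _).2 hv)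
    (by rw [finrank_span_singleton h2, h1])
  obtain ⟨_, ha, w, hw, rfl⟩ := mem_sup.1 (hle hv)
  obtain ⟨a, rfl⟩ := mem_span_singleton.1 ha
  rw [map_add, map_smul, h0, smul_zero, zero_add] at h3
  by_cases ha0 : a = 0
  · rw [ha0, zero_smul, zero_add] at e h2
    exact ⟨none, e ▸ eq_of_le_of_finrank_le ((span_singleton_le_iff_mem _ _).2 ⟨h3, hw⟩)
      (by rw [finrank_span_singleton h2]; exact h.ker)⟩
  · refine ⟨some ⟨a⁻¹ • w, by rw [SetLike.mem_coe, pow_one, LinearMap.mem_ker, map_smul, h3, smul_zero],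
      Y.smul_mem _ hw⟩, ?_⟩
    rw [← e, ← span_singleton_smul_eq (IsUnit.mk0 _ (inv_ne_zero ha0)), smul_add, inv_smul_smul₀ ha0]
    rfl

theorem Sb.card_pts [Finite K] (h : Sb T Y) : Nat.card (Option ↥(LinearMap.ker (T ^ 1) ⊓ Y)) ≤ Nat.card K + 1 := by
  have := finite_of_finite K (M := V)
  rw [Finite.card_option]
  simpa using h.card_ker 1

end Cfsg.Agent.N2.C1
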