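import Cfsg.Agent.N2.C1.Elt

/-!
# N2 (S3519), class C1: unitary and symplectic groups, a fixed non-degenerate subspace (helper43)
-/

set_option autoImplicit false
set_option linter.unusedSectionVars false

namespace Cfsg.Agent.N2.C1

open Cfsg.Agent.DS.Cl Cfsg.Agent.DS.Cl.Fwd Module Submodule
open Cfsg.Agent.N2C (Ctx Gd OnU OnSp pFix)
open Cfsg.Agent.SB.Cl (IsU IsSp)
open Cfsg.Agent.TH.Cl (Eich KU KSp IsU.swap IsU.tau_ne)
open Cfsg.Agent.TH.Cl.Big (b_swap_zero iso_b exists_norm)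
open Cfsg.Agent.SB.Tor (tau_self)
open Cfsg.Agent.ClassicalGeometry.InvolutiveNorm

variable {K V : Type} [Field K] [Fintype K] [AddCommGroup V] [Module K V] [Finite V] {h : HF K V} {F : FR h.EB}
  {X Y W : Submodule K V} {q : ℕ} {H : Subgroup (RingAut h.EB)}

theorem exists_mem_ne (d : 0 < finrank K X) : ∃ x ∈ X, x ≠ 0 :=
  exists_mem_ne_zero_of_ne_bot fun e => by rw [e, finrank_bot] at d; omega

theorem u_aniso (hU : IsU h) (n : ND h X) (d : 0 < finrank K X) : ∃ v ∈ X, h.b v v ≠ 0 := by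
  by_contra hcon
  push Not at hcon
  obtain ⟨x, hx, hx0⟩ := exists_mem_ne d
  obtain ⟨θ, hθ⟩ := exists_add_sigma_ne_zero (IsU.tau_ne hU)
  obtain ⟨y, hy, hyx⟩ := n.partner hx hx0 θ
  have h1 := hcon (x + y) (X.add_mem hx hy)
  rw [h.add_left, h.add_right, h.add_right, hcon x hx, hcon y hy, IsU.swap hU y x, hyx] at h1
  exact hθ (by linear_combination h1)

theorem u_val (hU : IsU h) (n : ND h X) (d : 0 < finrank K X) (x : V) : ∃ y ∈ X, h.b y y = -h.b x x := by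
  obtain ⟨v, hv, h1⟩ := u_aniso hU n d
  obtain ⟨c, hc⟩ := exists_norm hU h1 (n := -h.b x x) (by rw [map_neg, tau_self hU.1])
  exact ⟨_, X.smul_mem c hv, hc⟩

theorem b_add_self {x y : V} (o : h.b y x = 0) (e : h.b y y = -h.b x x) : h.b (x + y) (x + y) = 0 := by
  rw [h.add_left, h.add_right, h.add_right, e, o, b_swap_zero o]
  ring

theorem u_iso (hU : IsU h) (n : ND h X) (d : 2 ≤ finrank K X) : ∃ v ∈ X, v ≠ 0 ∧ h.b v v = 0 := by
  obtain ⟨x, hx, h1⟩ := u_aniso hU n (by omega)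
  have hle := (span_singleton_le_iff_mem x X).2 hx
  have d' := (nd_one h1).rel_dim hle
  rw [finrank_span_singleton (ne_of_b h1)] at d'
  obtain ⟨y, hy, h2⟩ := u_val hU (n.rel_nd (nd_one h1) hle) (by omega) x
  have o := mem_pp_one.1 hy.2
  refine ⟨x + y, X.add_mem hx hy.1, fun e => h1 ?_, b_add_self o h2⟩
  have h3 := h.add_left x y x
  rwa [e, h.zero_left, o, add_zero, eq_comm] at h3

theorem u_eich (k : KU h F q) {e : V} (he : h.b e e = 0) (t : V) (ht : h.b t e = 0) : ∃ c, Eich h F e t 1 c := by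
  obtain ⟨c, hc⟩ := exists_add_sigma_eq (IsU.tau_ne k.u) h.τ_τ (tau_self k.u.1 t)
  exact ⟨c, k.eich he ht (by rw [add_comm, hc])⟩

theorem tv_of_eich {e : V} {s c : K} (k : Eich h F e 0 s c) :
    ∃ r ∈ (⁅F.Iso, F.Iso⁆ : Subgroup h.EBˣ), ∀ x, h.ap r x = x - (c * h.b x e) • e := by
  obtain ⟨r, hr, e⟩ := k
  exact ⟨r, hr, fun x => by rw [e, h.zero_right, smul_zero, add_zero, mul_zero, zero_add]⟩

theorem u_tv (k : KU h F q) {e : V} (he : h.b e e = 0) :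
    ∃ κ : K, κ ≠ 0 ∧ ∃ r ∈ (⁅F.Iso, F.Iso⁆ : Subgroup h.EBˣ), ∀ x, h.ap r x = x - (κ * h.b x e) • e := by
  obtain ⟨c, hc⟩ := exists_sigma_ne (IsU.tau_ne k.u)
  exact ⟨c - h.τ c, sub_ne_zero.2 hc.symm, tv_of_eich (k.eich he (h.zero_left e) (by
    rw [map_sub, h.τ_τ, h.zero_left]; ring))⟩

/-- **regular unipotent elements, unitary groups** -/
theorem u_rg (k : KU h F q) (n : ND h Y) (d : 0 < finrank K Y) :
    ∃ u ∈ (⁅F.Iso, F.Iso⁆ : Subgroup h.EBˣ), Rg h u Y := by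
  have main := fun (m : ℕ) hm base i => exists_rg (F := F) (X := ⊤) (· ∈ (⁅F.Iso, F.Iso⁆ : Subgroup h.EBˣ))
    (fun _ hy _ hu => mul_mem hy hu) (fun _ hu => FR.comm_le_Iso hu) one_ne_zero (fun Y n d => by
      obtain ⟨e, he, h0, h1⟩ := u_iso k.u n (by omega)
      exact ⟨e, he, h0, h1, u_eich k h1⟩) (m := m) hm base i Y le_top n
  obtain ⟨i, hi | hi⟩ : ∃ i, finrank K Y = 1 + 2 * i ∨ finrank K Y = 2 + 2 * i := ⟨(finrank K Y - 1) / 2, by omega⟩
  · exact main 1 le_rfl (fun Y' _ _ d => ⟨1, one_mem _, rg_one d⟩) i hi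
  · refine main 2 (by omega) (fun Y' _ n d => ?_) i hi
    obtain ⟨e, he, h0, h1⟩ := u_iso k.u n d.ge
    obtain ⟨κ, hκ, r, hr, er⟩ := u_tv k h1
    exact ⟨r, hr, rg_two n d hκ he h0 h1 er⟩

/-- **elements without fixed vector, unitary groups** -/
theorem u_fpf (k : KU h F q) (n : ND h W) (d : 2 ≤ finrank K W) :
    ∃ g ∈ (⁅F.Iso, F.Iso⁆ : Subgroup h.EBˣ), (∀ v ∈ pp h W, h.ap g v = v) ∧ Ij (h.ap g - 1) W := by
  refine exists_fpf fun y hy y0 => ?_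
  suffices ∃ w ∈ W, h.b w y ≠ 0 ∧ h.b w w = 0 from this.imp fun w a => ⟨a.1, a.2.1, u_tv k a.2.2⟩
  by_contra hcon
  push Not at hcon
  have h1 : ∀ w ∈ W, h.b w w = 0 → h.b w y = 0 := fun w hw e => by
    by_contra h2
    exact hcon w hw h2 e
  obtain ⟨e, he, h0, hee⟩ := u_iso k.u n d
  have h2 : ∀ v ∈ W, h.b e v ≠ 0 → h.b v y = 0 := fun v hv e' => by
    obtain ⟨c, hc⟩ := exists_add_sigma_eq (IsU.tau_ne k.u) h.τ_τ (a := -h.b v v) (by rw [map_neg, tau_self k.u.1])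
    have h3 := h1 (v + (c / h.b e v) • e) (W.add_mem hv (W.smul_mem _ he)) (by
      rw [h.add_left, h.add_right, h.add_right, h.smul_left, h.smul_left, h.smul_right, h.smul_right, hee,
        IsU.swap k.u e v, ← map_mul, div_mul_cancel₀ _ e']
      linear_combination hc)
    rwa [h.add_left, h.smul_left, h1 e he hee, mul_zero, add_zero] at h3
  obtain ⟨f, hf, hfe⟩ := n.partner he h0 1
  have h3 : h.b e f ≠ 0 := h.ne_swap (hfe ▸ one_ne_zero)
  refine y0 (n y hy fun v hv => b_swap_zero ?_)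
  by_cases h4 : h.b e v = 0
  · have h5 := h2 (v + f) (W.add_mem hv hf) (by rwa [h.add_right, h4, zero_add])
    rwa [h.add_left, h2 f hf h3, add_zero] at h5
  · exact h2 v hv h4

theorem gd_U (k : KU h F q) (f : Fx F H W) (h5 : 2 ≤ finrank K W ∨ 5 ≤ finrank K V) : Gd F H := by
  have := f.pos
  have := f.le
  obtain ⟨u, hu, r⟩ := u_rg k f.nd.perp (by omega)
  by_cases h2 : 2 ≤ finrank K W
  · obtain ⟨g, hg, g1, g2⟩ := u_fpf k f.nd h2
    exact gd_A f hg hu g1 g2 r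
  · obtain ⟨x, hx, hxx⟩ := u_aniso k.u f.nd f.pos
    obtain ⟨y, hy, hyy⟩ := u_val k.u f.nd.perp (by omega) x
    have hs := b_add_self (hy x hx) hyy
    exact gd_B f (by omega) (h5.resolve_left h2) hu r hx hy hxx hs (u_eich k hs)

section Sp

variable {j : ℕ}

theorem sp_even (hS : ∀ v, h.b v v = 0) : ∀ (m : ℕ) (Y : Submodule K V), ND h Y → finrank K Y = m → Even m := fun m => by
  induction m using Nat.strong_induction_on with
  | _ m ih =>
    intro Y n d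
    rcases Nat.eq_zero_or_pos m with rfl | h0
    · exact Even.zero
    obtain ⟨e, he, e0⟩ := exists_mem_ne (X := Y) (d ▸ h0)
    obtain ⟨f, hf, hfe⟩ := n.partner he e0 1
    have m' := nd_two (hS e) (hfe ▸ one_ne_zero)
    have hle : span K {e, f} ≤ Y := span_le.2 (by rintro _ (rfl | rfl) <;> assumption)
    have d' := m'.rel_dim hle
    rw [dim_two (hS e) (hfe ▸ one_ne_zero)] at d'
    rw [← d, d']
    exact even_two.add (ih _ (by omega) _ (n.rel_nd m' hle) rfl)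

theorem sp_tv (k : KSp h F j) (e : V) :
    ∃ r ∈ (⁅F.Iso, F.Iso⁆ : Subgroup h.EBˣ), ∀ x, h.ap r x = x - (1 * h.b x e) • e :=
  tv_of_eich (k.eich (h.zero_left e) 1)

/-- **regular unipotent elements, symplectic groups** -/
theorem sp_rg (k : KSp h F j) (n : ND h Y) (d : 0 < finrank K Y) :
    ∃ u ∈ (⁅F.Iso, F.Iso⁆ : Subgroup h.EBˣ), Rg h u Y := by
  obtain ⟨i, hi⟩ := sp_even k.sp.2.1 _ Y n rfl
  refine exists_rg (F := F) (X := ⊤) (· ∈ (⁅F.Iso, F.Iso⁆ : Subgroup h.EBˣ))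
    (fun _ hy _ hu => mul_mem hy hu) (fun _ hu => FR.comm_le_Iso hu) (neg_ne_zero.2 one_ne_zero) (fun Y n d => by
      obtain ⟨e, he, h0⟩ := exists_mem_ne (X := Y) (by omega)
      exact ⟨e, he, h0, k.sp.2.1 e, fun t ht => ⟨0, k.eich ht 0⟩⟩) (m := 2) (by omega) (fun Y' _ n d => ?_) (i - 1) Y
    le_top n (by omega)
  obtain ⟨e, he, h0⟩ := exists_mem_ne (X := Y') (by omega)
  obtain ⟨r, hr, er⟩ := sp_tv k e
  exact ⟨r, hr, rg_two n d one_ne_zero he h0 (k.sp.2.1 e) er⟩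

/-- **elements without fixed vector, symplectic groups** -/
theorem sp_fpf (k : KSp h F j) (n : ND h W) :
    ∃ g ∈ (⁅F.Iso, F.Iso⁆ : Subgroup h.EBˣ), (∀ v ∈ pp h W, h.ap g v = v) ∧ Ij (h.ap g - 1) W :=
  exists_fpf fun y hy y0 => by
    obtain ⟨w, hw, e⟩ := n.partner hy y0 1
    exact ⟨w, hw, e ▸ one_ne_zero, 1, one_ne_zero, sp_tv k w⟩

/-- **[Fix, Sp]**, all dimensions -/
theorem fixSp2 : OnSp 2 pFix := fun _ _ _ _ _ _ _ _ _ _ _ _ k _ c hD => by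
  obtain ⟨W, f⟩ := exists_fx c hD
  obtain ⟨u, hu, r⟩ := sp_rg k f.nd.perp (f.pos.trans_le f.le)
  obtain ⟨g, hg, g1, g2⟩ := sp_fpf k f.nd
  exact gd_A f hg hu g1 g2 r

end Sp

end Cfsg.Agent.N2.C1

namespace Cfsg.Agent.N2C

/-- **[Fix, U]** -/
theorem fixU : OnU 5 pFix := fun _ _ _ _ _ _ _ _ _ _ _ _ k h5 c hD => by
  obtain ⟨W, f⟩ := N2.C1.exists_fx c hD
  exact N2.C1.gd_U k f (Or.inr h5)

end Cfsg.Agent.N2C
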